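import Groth.Agent.AdjLin.K134.JacExc
import Groth.Agent.Divis.BlowChart2
import Groth.Agent.Krr.H501.StalkLen
import Groth.Agent.LocAlg.K539.QRegLen
import Groth.Agent.FlatMor.K258.BlowSmooth

/-!
# The Jacobian ideal of a blow-up

* `pow_mem_fitt`: `a ^ m ∈ Fitt₀ (Ω_{B/A})` if `B` is generated by `m` elements `u_i` with `a u_i ∈ A`;
* `pow_comap_le_jac`: `(I · O_{X'}) ^ m ≤ jac b` for the blow-up `b` of an ideal which is locally generated by
  `m + 1` elements;
-/

set_option autoImplicit false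

universe u

open CategoryTheory CategoryTheory.Limits AlgebraicGeometry TopologicalSpace Opposite
open scoped TensorProduct

namespace K134.BlowJac

open Groth.Agent Groth.Agent.Divis.CartierBasic Groth.Agent.Divis.CartierStalk
open K134.JacSheaf K134.JacCart K134.JacStalk K134.JacRat K134.JacExc K134.OrdId K84.Iface
open BlowUp Groth.Agent.Flat2C.FittingZero

section Alg

variable {A B : Type u} [CommRing A] [CommRing B] [Algebra A B]

theorem span_D_of_adjoin {ι : Type*} (u : ι → B) (hu : Algebra.adjoin A (Set.range u) = ⊤) :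
    Submodule.span B (Set.range fun i => KaehlerDifferential.D A B (u i)) = ⊤ := by
  rw [eq_top_iff, ← KaehlerDifferential.span_range_derivation, Submodule.span_le]
  rintro _ ⟨b, rfl⟩
  have hb : b ∈ Algebra.adjoin A (Set.range u) := by rw [hu]; trivial
  induction hb using Algebra.adjoin_induction with
  | mem x hx =>
    obtain ⟨i, rfl⟩ := hx
    exact Submodule.subset_span ⟨i, rfl⟩
  | algebraMap r =>
    rw [Derivation.map_algebraMap]
    exact Submodule.zero_mem _
  | add x y _ _ hx hy =>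
    rw [map_add]
    exact Submodule.add_mem _ hx hy
  | mul x y _ _ hx hy =>
    rw [Derivation.leibniz]
    exact Submodule.add_mem _ (Submodule.smul_mem _ _ hy) (Submodule.smul_mem _ _ hx)

theorem pow_mem_fitt {ι : Type*} [Fintype ι] (a : A) (u : ι → B)
    (hu : Algebra.adjoin A (Set.range u) = ⊤) (h : ∀ i, ∃ c, algebraMap A B a * u i = algebraMap A B c) :
    algebraMap A B a ^ Fintype.card ι ∈ Fitt.ideal B Ω[B⁄A] 0 := by
  classical
  rw [K576.FittJac.fitt_zero_eq_relDet B Ω[B⁄A] _ (span_D_of_adjoin u hu)]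
  refine Ideal.subset_span ⟨Matrix.diagonal fun _ => algebraMap A B a, fun i => ?_, ?_⟩
  · rw [Finset.sum_eq_single i]
    · rw [Matrix.diagonal_apply_eq]
      obtain ⟨c, hc⟩ := h i
      have h1 := congrArg (KaehlerDifferential.D A B) hc
      rw [Derivation.leibniz, Derivation.map_algebraMap, Derivation.map_algebraMap, smul_zero,
        add_zero] at h1
      exact h1
    · intro j _ hj
      rw [Matrix.diagonal_apply_ne _ hj.symm, zero_smul]
    · intro h1
      exact absurd (Finset.mem_univ i) h1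
  · rw [Matrix.det_diagonal, Finset.prod_const, Finset.card_univ]

/-- Generators of the affine blow-up algebra. -/
theorem exists_gens_affine {n : ℕ} (v : Fin (n + 1) → A) (j : Fin (n + 1)) {I : Ideal A}
    (hI : I = Ideal.span (Set.range v)) :
    ∃ u : {i : Fin (n + 1) // i ≠ j} → affineAlgebra A I (v j),
      Algebra.adjoin A (Set.range u) = ⊤ ∧
        ∀ i, algebraMap A (affineAlgebra A I (v j)) (v j) * u i =
          algebraMap A (affineAlgebra A I (v j)) (v i.1) := by
  classical
  let L := Localization.Away (v j)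
  let q : Fin (n + 1) → L := fun i => IsLocalization.mk' L (v i) ⟨v j, Submonoid.mem_powers (v j)⟩
  have hq : ∀ i, q i ∈ affineAlgebra A I (v j) := fun i =>
    Algebra.subset_adjoin ⟨v i, hI ▸ Ideal.subset_span ⟨i, rfl⟩, rfl⟩
  have hqj : ∀ i, algebraMap A L (v j) * q i = algebraMap A L (v i) := fun i =>
    IsLocalization.mk'_spec' L (v i) ⟨v j, Submonoid.mem_powers (v j)⟩
  have hu1 : q j = 1 := by
    have hunit : IsUnit (algebraMap A L (v j)) := IsLocalization.Away.algebraMap_isUnit (v j)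
    apply hunit.mul_left_cancel
    rw [hqj, mul_one]
  let u : {i : Fin (n + 1) // i ≠ j} → affineAlgebra A I (v j) := fun i => ⟨q i.1, hq i.1⟩
  refine ⟨u, ?_, fun i => Subtype.ext (hqj i.1)⟩
  rw [eq_top_iff]
  have h1 : affineAlgebra A I (v j) ≤ (Algebra.adjoin A (Set.range u)).map
      (affineAlgebra A I (v j)).val := by
    refine Algebra.adjoin_le ?_
    rintro _ ⟨x, hx, rfl⟩
    rw [hI, Ideal.mem_span_range_iff_exists_fun] at hx
    obtain ⟨c, rfl⟩ := hx
    have h2 : IsLocalization.mk' L (∑ i, c i * v i) ⟨v j, Submonoid.mem_powers (v j)⟩ =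
        ∑ i, algebraMap A L (c i) * q i := by
      have hunit : IsUnit (algebraMap A L (v j)) := IsLocalization.Away.algebraMap_isUnit (v j)
      apply hunit.mul_left_cancel
      rw [IsLocalization.mk'_spec' L _ ⟨v j, Submonoid.mem_powers (v j)⟩, map_sum, Finset.mul_sum]
      refine Finset.sum_congr rfl fun i _ => ?_
      rw [map_mul, mul_left_comm, hqj]
    change IsLocalization.mk' L (∑ i, c i * v i) ⟨v j, Submonoid.mem_powers (v j)⟩ ∈ _
    rw [h2]
    refine Subalgebra.sum_mem _ fun i _ => Subalgebra.mul_mem _ (Subalgebra.algebraMap_mem _ _) ?_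
    by_cases hij : i = j
    · rw [hij, hu1]
      exact Subalgebra.one_mem _
    · exact ⟨u ⟨i, hij⟩, Algebra.subset_adjoin ⟨_, rfl⟩, rfl⟩
  rintro ⟨x, hx⟩ -
  obtain ⟨y, hy, hyx⟩ := h1 hx
  have : y = ⟨x, hx⟩ := Subtype.ext hyx
  rwa [← this]

/-- A ring isomorphic to the affine blow-up algebra of an ideal with `n + 1` generators. -/
theorem pow_mem_fitt_affine {n : ℕ} (v : Fin (n + 1) → A) (j : Fin (n + 1)) {I : Ideal A}
    (hI : I = Ideal.span (Set.range v)) (θ : affineAlgebra A I (v j) ≃+* B)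
    (hθ : ∀ c, θ (algebraMap _ _ c) = algebraMap A B c) :
    algebraMap A B (v j) ^ n ∈ Fitt.ideal B Ω[B⁄A] 0 := by
  classical
  obtain ⟨u, hu, hv⟩ := exists_gens_affine v j hI
  let Θ : affineAlgebra A I (v j) →ₐ[A] B := { θ.toRingHom with commutes' := hθ }
  have hcard : Fintype.card {i : Fin (n + 1) // i ≠ j} = n := by
    rw [Fintype.card_subtype_compl, Fintype.card_fin, Fintype.card_subtype_eq]
    rfl
  have h3 := pow_mem_fitt (v j) (fun i => Θ (u i)) (by
    have h4 : Set.range (fun i => Θ (u i)) = Θ '' Set.range u := by rw [← Set.range_comp]; rfl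
    rw [h4, ← AlgHom.map_adjoin, hu, Algebra.map_top]
    rw [AlgHom.range_eq_top]
    exact θ.surjective) (fun i => ⟨v i.1, by
      rw [← hθ, ← hθ, ← hv i, map_mul]
      rfl⟩)
  rwa [hcard] at h3

end Alg

section Blow

variable {X X' : Scheme.{u}}

/-- `(J · O_{X'}) ^ n ⊆ jac b` for the blow-up `b` of an ideal which is locally generated by `n + 1` elements. -/
theorem pow_comap_le_jac (b : X' ⟶ X) [LocallyOfFiniteType b] [QuasiCompact (pullback.diagonal b)]
    (J : X.IdealSheafData) (hb : IsBlowUp b J) (n : ℕ)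
    (hJ : ∀ x : X, ∃ U : X.affineOpens, x ∈ U.1 ∧ ∃ v : Fin (n + 1) → Γ(X, U.1),
      J.ideal U = Ideal.span (Set.range v)) : (J.comap b) ^ n ≤ jac b := by
  refine le_of_stalkIdeal fun y => ?_
  obtain ⟨U, hyU, v, hv⟩ := hJ (b y)
  obtain ⟨_, ⟨j, rfl⟩, hy⟩ := Divis.BlowChart2.exists_mem_chart_of_span b J U hb.1 hv y hyU
  have hvj : v j ∈ J.ideal U := by rw [hv]; exact Ideal.subset_span ⟨j, rfl⟩
  have hW := Divis.BlowChart2.isAffineOpen_chart b J U hb hvj
  have e := Divis.BlowChart2.chart_le b J U (v j)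
  obtain ⟨θ, hθ⟩ := Divis.BlowChart2.exists_ringEquiv_chart b J U hb hvj
  rw [stalkIdeal_eq _ ⟨_, hW⟩ hy, stalkIdeal_eq _ ⟨_, hW⟩ hy]
  apply Ideal.map_mono
  rw [Scheme.IdealSheafData.ideal_pow, Pi.pow_apply, Divis.BlowChart2.ideal_chart b J U (v j) hW,
    jac_ideal b e U.2 hW, Ideal.span_singleton_pow, Ideal.span_singleton_le_iff_mem]
  let := Groth.Agent.CurvesB.OmegaDer.algX b e
  exact pow_mem_fitt_affine v j hv θ hθ

end Blow

end K134.BlowJac
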