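import Groth.Agent.Disc.K576.FittJac
import Groth.Agent.Vanish.K680.FormLog
import Mathlib.RingTheory.Kaehler.Basic
import Mathlib.RingTheory.DiscreteValuationRing.Basic

/-!
# The Jacobian determinant of a map between algebras with free differentials

* `mat bA bB`: the matrix of `B ⊗ Ω_{A/k} → Ω_{B/k}` for bases `bA` of `Ω_{A/k}`, `bB` of `Ω_{B/k}`;
* `fitt_omega`: `Fitt₀ (Ω_{B/A}) = (det)`;
* `mat_comp`: the chain rule;
* `sum_addVal_le`: logarithmic estimate over a discrete valuation ring.
-/

set_option autoImplicit false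

universe u

open scoped TensorProduct
open KaehlerDifferential

namespace K134.JacAlg

section Mat

variable {k A B C : Type u} [CommRing k] [CommRing A] [CommRing B] [CommRing C] [Algebra k A]
  [Algebra k B] [Algebra k C] [Algebra A B] [IsScalarTower k A B] [Algebra B C] [IsScalarTower k B C]
  [Algebra A C] [IsScalarTower k A C] [IsScalarTower A B C] {n : ℕ}

/-- The Jacobian matrix: row `i` is `d(bA i)` in the basis `bB`. -/
noncomputable def mat (bA : Module.Basis (Fin n) A Ω[A⁄k]) (bB : Module.Basis (Fin n) B Ω[B⁄k]) :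
    Matrix (Fin n) (Fin n) B :=
  Matrix.of fun i j => bB.repr (KaehlerDifferential.map k k A B (bA i)) j

theorem mat_apply (bA : Module.Basis (Fin n) A Ω[A⁄k]) (bB : Module.Basis (Fin n) B Ω[B⁄k])
    (i j : Fin n) : mat bA bB i j = bB.repr (KaehlerDifferential.map k k A B (bA i)) j := rfl

theorem det_mat (bA : Module.Basis (Fin n) A Ω[A⁄k]) (bB : Module.Basis (Fin n) B Ω[B⁄k]) :
    (mat bA bB).det = bB.det (fun i => KaehlerDifferential.map k k A B (bA i)) := by
  rw [Module.Basis.det_apply, ← Matrix.det_transpose]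
  congr 1

theorem fitt_omega (bA : Module.Basis (Fin n) A Ω[A⁄k]) (bB : Module.Basis (Fin n) B Ω[B⁄k]) :
    Fitt.ideal B Ω[B⁄A] 0 = Ideal.span {(mat bA bB).det} := by
  set x : Fin n → Ω[B⁄A] := fun j => KaehlerDifferential.map k A B B (bB j) with hx
  have hspan : Submodule.span B (Set.range x) = ⊤ := by
    have h1 : Set.range x = (KaehlerDifferential.map k A B B) '' (Set.range bB) := by
      rw [← Set.range_comp]; rfl
    rw [h1, ← Submodule.map_span, bB.span_eq, Submodule.map_top, LinearMap.range_eq_top]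
    exact KaehlerDifferential.map_surjective k A B
  rw [K576.FittJac.fitt_zero_eq_relDet B Ω[B⁄A] x hspan]
  refine K576.FittJac.relDet_of_rel_span x _ ?_
  have hex := KaehlerDifferential.exact_mapBaseChange_map k A B
  have hsum : ∀ c : Fin n → B, ∑ j, c j • x j = KaehlerDifferential.map k A B B (∑ j, c j • bB j) := by
    intro c
    rw [map_sum]
    exact Finset.sum_congr rfl fun j _ => by rw [map_smul]
  have hrow : ∀ i, ∑ j, mat bA bB i j • bB j = KaehlerDifferential.map k k A B (bA i) := by
    intro i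
    simp only [mat_apply]
    exact bB.sum_repr _
  apply le_antisymm
  · refine Submodule.span_le.mpr ?_
    rintro _ ⟨i, rfl⟩
    rw [SetLike.mem_coe, Groth.Agent.Flat2C.FittingZero.mem_rel, hsum, hrow]
    have h2 : KaehlerDifferential.map k k A B (bA i) =
        mapBaseChange k A B (1 ⊗ₜ (bA i)) := by rw [mapBaseChange_tmul, one_smul]
    rw [h2]
    exact (hex _).mpr ⟨_, rfl⟩
  · intro c hc
    rw [Groth.Agent.Flat2C.FittingZero.mem_rel, hsum] at hc
    obtain ⟨w, hw⟩ := (hex _).mp hc
    obtain ⟨a, ha⟩ : ∃ a : Fin n → B, w = ∑ i, a i • ((1 : B) ⊗ₜ[A] bA i) := by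
      refine ⟨fun i => (bA.baseChange B).repr w i, ?_⟩
      conv_lhs => rw [← (bA.baseChange B).sum_repr w]
      refine Finset.sum_congr rfl fun i _ => ?_
      rw [Module.Basis.baseChange_apply]
    have h3 : ∑ j, c j • bB j = ∑ j, (∑ i, a i * mat bA bB i j) • bB j := by
      rw [← hw, ha, map_sum]
      have h4 : ∀ i, mapBaseChange k A B (a i • ((1 : B) ⊗ₜ[A] bA i)) =
          ∑ j, (a i * mat bA bB i j) • bB j := by
        intro i
        rw [map_smul, mapBaseChange_tmul, one_smul, ← hrow i, Finset.smul_sum]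
        exact Finset.sum_congr rfl fun j _ => by rw [smul_smul]
      rw [Finset.sum_congr rfl fun i _ => h4 i, Finset.sum_comm]
      exact Finset.sum_congr rfl fun j _ => by rw [Finset.sum_smul]
    have h5 : c = ∑ i, a i • (mat bA bB) i := by
      funext j
      have h6 := congrArg (fun z => bB.repr z j) h3
      simp only [map_sum, map_smul, Module.Basis.repr_self, Finsupp.coe_finsetSum, Finset.sum_apply,
        Finsupp.coe_smul, Pi.smul_apply, Finsupp.single_apply, smul_eq_mul, mul_ite, mul_one,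
        mul_zero, Finset.sum_ite_eq', Finset.mem_univ, if_true] at h6
      rw [h6, Finset.sum_apply]
      rfl
    rw [h5]
    exact Submodule.sum_mem _ fun i _ => Submodule.smul_mem _ _ (Submodule.subset_span ⟨i, rfl⟩)

/-- Chain rule. -/
theorem mat_comp (bA : Module.Basis (Fin n) A Ω[A⁄k]) (bB : Module.Basis (Fin n) B Ω[B⁄k])
    (bC : Module.Basis (Fin n) C Ω[C⁄k]) :
    mat bA bC = (mat bA bB).map (algebraMap B C) * mat bB bC := by
  ext i j
  rw [Matrix.mul_apply, mat_apply]
  have h1 : KaehlerDifferential.map k k A C (bA i) =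
      KaehlerDifferential.map k k B C (KaehlerDifferential.map k k A B (bA i)) := by
    generalize bA i = w
    have hw : w ∈ Submodule.span A (Set.range (KaehlerDifferential.D k A)) := by
      rw [KaehlerDifferential.span_range_derivation]
      trivial
    induction hw using Submodule.span_induction with
    | mem w hw =>
      obtain ⟨c, rfl⟩ := hw
      rw [KaehlerDifferential.map_D, KaehlerDifferential.map_D, KaehlerDifferential.map_D,
        IsScalarTower.algebraMap_apply A B C]
    | zero => simp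
    | add x y _ _ hx hy => rw [map_add, map_add, map_add, hx, hy]
    | smul c x _ hx =>
      have h2 : ∀ y : Ω[B⁄k], KaehlerDifferential.map k k B C (c • y) =
          c • KaehlerDifferential.map k k B C y := by
        intro y
        rw [← algebraMap_smul B c y, map_smul, algebraMap_smul]
      rw [map_smul, map_smul, h2, hx]
  rw [h1]
  conv_lhs => rw [← bB.sum_repr (KaehlerDifferential.map k k A B (bA i))]
  rw [map_sum, map_sum, Finsupp.finsetSum_apply]
  refine Finset.sum_congr rfl fun l _ => ?_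
  have h3 : KaehlerDifferential.map k k B C
      ((bB.repr (KaehlerDifferential.map k k A B (bA i))) l • bB l) =
      algebraMap B C ((bB.repr (KaehlerDifferential.map k k A B (bA i))) l) •
        KaehlerDifferential.map k k B C (bB l) := by
    rw [map_smul, algebraMap_smul]
  rw [h3, map_smul, Finsupp.smul_apply, smul_eq_mul]
  rfl

theorem det_comp (bA : Module.Basis (Fin n) A Ω[A⁄k]) (bB : Module.Basis (Fin n) B Ω[B⁄k])
    (bC : Module.Basis (Fin n) C Ω[C⁄k]) :
    (mat bA bC).det = algebraMap B C (mat bA bB).det * (mat bB bC).det := by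
  rw [mat_comp bA bB bC, Matrix.det_mul]
  congr 1
  exact (RingHom.map_det (algebraMap B C) (mat bA bB)).symm

theorem fitt_comp (bA : Module.Basis (Fin n) A Ω[A⁄k]) (bB : Module.Basis (Fin n) B Ω[B⁄k])
    (bC : Module.Basis (Fin n) C Ω[C⁄k]) :
    Fitt.ideal C Ω[C⁄A] 0 = (Fitt.ideal B Ω[B⁄A] 0).map (algebraMap B C) *
      Fitt.ideal C Ω[C⁄B] 0 := by
  rw [fitt_omega bA bC, fitt_omega bA bB, fitt_omega bB bC, Ideal.map_span, Set.image_singleton,
    Ideal.span_singleton_mul_span_singleton, det_comp bA bB bC]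

end Mat

section Log

variable {k A R : Type u} [CommRing k] [CommRing A] [CommRing R] [Algebra k A]
  [Algebra k R] [Algebra A R] [IsScalarTower k A R] {n : ℕ}

theorem isDer_D : K583.AlgUniv.IsDer (algebraMap k R)
    (KaehlerDifferential.D k R : R →ₗ[k] Ω[R⁄k]).toAddMonoidHom := by
  constructor
  · intro a b
    exact (KaehlerDifferential.D k R).leibniz a b
  · intro c
    exact (KaehlerDifferential.D k R).map_algebraMap c

/-- Logarithmic estimate, explicit form. -/
theorem exists_pow_dvd (bA : Module.Basis (Fin n) A Ω[A⁄k]) (bR : Module.Basis (Fin n) R Ω[R⁄k])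
    (T : Finset (Fin n)) (t : Fin n → A) (hb : ∀ j ∈ T, bA j = KaehlerDifferential.D k A (t j))
    (s : R) (a : Fin n → ℕ) (u : Fin n → R)
    (hu : ∀ j ∈ T, algebraMap A R (t j) = u j * s ^ a j) (ha : ∀ j ∈ T, 0 < a j) :
    s ^ ((∑ j ∈ T, a j) - 1) ∣ (mat bA bR).det := by
  classical
  rcases T.eq_empty_or_nonempty with rfl | hT
  · simp
  rw [det_mat]
  let v' : Fin n → Ω[R⁄k] := fun j =>
    if j ∈ T then (u j * (a j : R)) • KaehlerDifferential.D k R s +
      s • KaehlerDifferential.D k R (u j)
    else KaehlerDifferential.map k k A R (bA j)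
  let e : Fin n → R := fun j => if j ∈ T then s ^ (a j - 1) else 1
  have h3 : (fun j => KaehlerDifferential.map k k A R (bA j)) = fun j => e j • v' j := by
    funext j
    by_cases hj : j ∈ T
    · simp only [e, v', if_pos hj]
      rw [hb j hj, KaehlerDifferential.map_D, hu j hj]
      exact K680.FormLog.der_unit_mul_pow isDer_D (u j) s (ha j hj)
    · simp only [e, v', if_neg hj, one_smul]
  have h4 : ∏ j, e j = s ^ (∑ j ∈ T, (a j - 1)) := by
    simp only [e]
    rw [Finset.prod_ite_mem, Finset.univ_inter, Finset.prod_pow_eq_pow_sum]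
  obtain ⟨w, hw⟩ := K680.FormLog.alt_pow bR.det s (KaehlerDifferential.D k R s) T v' (fun j hj =>
    ⟨u j * (a j : R), KaehlerDifferential.D k R (u j), by simp only [v', if_pos hj]⟩)
  rw [h3, AlternatingMap.map_smul_univ, h4, hw, smul_smul, ← pow_add]
  have h5 : ∑ j ∈ T, (a j - 1) + (T.card - 1) = (∑ j ∈ T, a j) - 1 := by
    have h6 : ∑ j ∈ T, a j = ∑ j ∈ T, (a j - 1) + T.card := by
      rw [Finset.card_eq_sum_ones, ← Finset.sum_add_distrib]
      exact Finset.sum_congr rfl fun j hj => (Nat.sub_add_cancel (ha j hj)).symm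
    have h7 := hT.card_pos
    omega
  rw [h5]
  exact ⟨w, rfl⟩

open IsDiscreteValuationRing in
/-- Logarithmic estimate over a discrete valuation ring: `∑ v(t_j) ≤ 1 + v(det)` when the `d t_j` are
part of a basis of `Ω_{A/k}`. -/
theorem sum_addVal_le [IsDomain R] [IsDiscreteValuationRing R]
    (bA : Module.Basis (Fin n) A Ω[A⁄k]) (bR : Module.Basis (Fin n) R Ω[R⁄k])
    (T : Finset (Fin n)) (t : Fin n → A) (hb : ∀ j ∈ T, bA j = KaehlerDifferential.D k A (t j)) :
    ∑ j ∈ T, addVal R (algebraMap A R (t j)) ≤ 1 + addVal R (mat bA bR).det := by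
  classical
  by_cases h0 : ∃ j ∈ T, algebraMap A R (t j) = 0
  · obtain ⟨j, hj, hj0⟩ := h0
    have h1 : (mat bA bR).det = 0 := by
      rw [det_mat]
      refine AlternatingMap.map_coord_zero _ j ?_
      rw [hb j hj, KaehlerDifferential.map_D, hj0, map_zero]
    rw [h1, addVal_zero]
    simp
  push Not at h0
  obtain ⟨s, hs⟩ := IsDiscreteValuationRing.exists_irreducible R
  have h1 : ∀ j, ∃ (a : ℕ) (u : R), j ∈ T → algebraMap A R (t j) = u * s ^ a ∧ IsUnit u := by
    intro j
    by_cases hj : j ∈ T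
    · obtain ⟨a, u, hau⟩ := IsDiscreteValuationRing.eq_unit_mul_pow_irreducible (h0 j hj) hs
      exact ⟨a, u, fun _ => ⟨hau, u.isUnit⟩⟩
    · exact ⟨0, 0, fun h => absurd h hj⟩
  choose a u hau using h1
  have hval : ∀ j ∈ T, addVal R (algebraMap A R (t j)) = a j := by
    intro j hj
    obtain ⟨h2, h3⟩ := hau j hj
    obtain ⟨v, hv⟩ := h3
    rw [h2, ← hv]
    exact addVal_def' v hs (a j)
  have h2 := exists_pow_dvd bA bR (T.filter fun j => 0 < a j) t
    (fun j hj => hb j (Finset.mem_filter.mp hj).1) s a u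
    (fun j hj => (hau j (Finset.mem_filter.mp hj).1).1) (fun j hj => (Finset.mem_filter.mp hj).2)
  have h3 : ∑ j ∈ T.filter (fun j => 0 < a j), a j = ∑ j ∈ T, a j := by
    rw [Finset.sum_filter]
    refine Finset.sum_congr rfl fun j _ => ?_
    split_ifs with h
    · rfl
    · omega
  rw [h3] at h2
  have h4 : addVal R (s ^ ((∑ j ∈ T, a j) - 1)) ≤ addVal R (mat bA bR).det := addVal_le_iff_dvd.mpr h2
  have h5 : addVal R (s ^ ((∑ j ∈ T, a j) - 1)) = (((∑ j ∈ T, a j) - 1 : ℕ) : ℕ∞) := by
    have := addVal_def' (1 : Rˣ) hs ((∑ j ∈ T, a j) - 1)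
    rwa [Units.val_one, one_mul] at this
  rw [h5] at h4
  rw [Finset.sum_congr rfl hval, ← Nat.cast_sum]
  refine le_trans ?_ (add_le_add_right h4 1)
  have h6 : ∑ j ∈ T, a j ≤ 1 + ((∑ j ∈ T, a j) - 1) := by omega
  exact_mod_cast h6

end Log

end K134.JacAlg
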