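import Groth.Agent.AdjLin.K134.JacAlg
import Groth.Agent.CalgA.CharZeroFS
import Mathlib.RingTheory.Etale.Kaehler
import Mathlib.RingTheory.Kaehler.Polynomial
import Mathlib.RingTheory.Smooth.Kaehler

/-!
# Jacobian determinants, part 2

* `etBasis`: bases of differentials along formally etale maps;
* `exists_basis_coord`: étale coordinates give a basis;
* `isUnit_det_iff`: the determinant is a unit iff `A → B` is formally etale (for `B` formally smooth over `k`);
* `det_ne_zero`: domains over a field of characteristic zero;
* `sum_addVal_le_of_etale`: logarithmic estimate at a localization.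
-/

set_option autoImplicit false

universe u

open scoped TensorProduct
open KaehlerDifferential

namespace K134.JacAlg2

open K134.JacAlg

section Etale

variable {k B R : Type u} [CommRing k] [CommRing B] [CommRing R] [Algebra k B] [Algebra k R]
  [Algebra B R] [IsScalarTower k B R] {ι : Type*}

/-- The basis of `Ω_{R/k}` obtained along a formally etale map. -/
noncomputable def etBasis (R : Type u) [CommRing R] [Algebra k R] [Algebra B R]
    [IsScalarTower k B R] [Algebra.FormallyEtale B R] (b : Module.Basis ι B Ω[B⁄k]) :
    Module.Basis ι R Ω[R⁄k] :=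
  (b.baseChange R).map (tensorKaehlerEquivOfFormallyEtale k B R)

theorem etBasis_apply [Algebra.FormallyEtale B R] (b : Module.Basis ι B Ω[B⁄k]) (i : ι) :
    etBasis R b i = KaehlerDifferential.map k k B R (b i) := by
  rw [etBasis, Module.Basis.map_apply, Module.Basis.baseChange_apply,
    tensorKaehlerEquivOfFormallyEtale_apply, mapBaseChange_tmul, one_smul]

theorem mat_etBasis [Algebra.FormallyEtale B R] {n : ℕ} (b : Module.Basis (Fin n) B Ω[B⁄k]) :
    mat b (etBasis R b) = 1 := by
  ext i j
  rw [mat_apply, ← etBasis_apply, Module.Basis.repr_self, Finsupp.single_apply, Matrix.one_apply]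

/-- The determinant after a formally etale extension of the source and of the target. -/
theorem det_et {A : Type u} [CommRing A] [Algebra k A] [Algebra A B] [IsScalarTower k A B]
    [Algebra A R] [IsScalarTower k A R] [IsScalarTower A B R] [Algebra.FormallyEtale B R] {n : ℕ}
    (bA : Module.Basis (Fin n) A Ω[A⁄k]) (bB : Module.Basis (Fin n) B Ω[B⁄k]) :
    (mat bA (etBasis R bB)).det = algebraMap B R (mat bA bB).det := by
  rw [det_comp bA bB (etBasis R bB), mat_etBasis, Matrix.det_one, mul_one]

end Etale

section Coord

theorem exists_basis_coord {k A : Type u} [CommRing k] [CommRing A] [Algebra k A] {n : ℕ}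
    (v : Fin n → A) (h : (MvPolynomial.eval₂Hom (algebraMap k A) v).Etale) :
    ∃ b : Module.Basis (Fin n) A Ω[A⁄k], ∀ i, b i = KaehlerDifferential.D k A (v i) := by
  let _ : Algebra (MvPolynomial (Fin n) k) A := (MvPolynomial.eval₂Hom (algebraMap k A) v).toAlgebra
  have : IsScalarTower k (MvPolynomial (Fin n) k) A := IsScalarTower.of_algebraMap_eq fun a => by
    change _ = MvPolynomial.eval₂Hom (algebraMap k A) v (MvPolynomial.C a)
    simp only [MvPolynomial.coe_eval₂Hom, MvPolynomial.eval₂_C]
  have h1 : Algebra.Etale (MvPolynomial (Fin n) k) A := h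
  refine ⟨etBasis A (mvPolynomialBasis k (Fin n)), fun i => ?_⟩
  rw [etBasis_apply, mvPolynomialBasis_apply, KaehlerDifferential.map_D]
  congr 1
  change MvPolynomial.eval₂Hom (algebraMap k A) v (MvPolynomial.X i) = v i
  simp

end Coord

section Unit

variable {k A B : Type u} [CommRing k] [CommRing A] [CommRing B] [Algebra k A] [Algebra k B]
  [Algebra A B] [IsScalarTower k A B] {n : ℕ}

theorem bijective_iff_isUnit_det (bA : Module.Basis (Fin n) A Ω[A⁄k])
    (bB : Module.Basis (Fin n) B Ω[B⁄k]) :
    Function.Bijective (mapBaseChange k A B) ↔ IsUnit (mat bA bB).det := by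
  have h2 : LinearMap.toMatrix (bA.baseChange B) bB (mapBaseChange k A B) = (mat bA bB).transpose := by
    ext i j
    rw [LinearMap.toMatrix_apply, Module.Basis.baseChange_apply, mapBaseChange_tmul, one_smul,
      Matrix.transpose_apply, mat_apply]
  constructor
  · intro h
    let e := LinearEquiv.ofBijective _ h
    have h3 := LinearEquiv.isUnit_det e (bA.baseChange B) bB
    have h4 : LinearMap.toMatrix (bA.baseChange B) bB e = (mat bA bB).transpose := h2
    rw [h4, Matrix.det_transpose] at h3
    exact h3
  · intro h
    have h3 : IsUnit (LinearMap.toMatrix (bA.baseChange B) bB (mapBaseChange k A B)).det := by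
      rw [h2, Matrix.det_transpose]; exact h
    have h4 := (LinearEquiv.ofIsUnitDet h3).bijective
    exact h4

/-- The determinant is a unit iff `A → B` is formally etale. -/
theorem isUnit_det_iff [Algebra.FormallySmooth k B] (bA : Module.Basis (Fin n) A Ω[A⁄k])
    (bB : Module.Basis (Fin n) B Ω[B⁄k]) :
    IsUnit (mat bA bB).det ↔ Algebra.FormallyEtale A B := by
  rw [← bijective_iff_isUnit_det]
  constructor
  · intro h
    have h1 : Subsingleton Ω[B⁄A] := by
      refine subsingleton_of_forall_eq 0 fun x => ?_
      obtain ⟨y, rfl⟩ := KaehlerDifferential.map_surjective k A B x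
      obtain ⟨z, rfl⟩ := h.2 y
      exact (KaehlerDifferential.exact_mapBaseChange_map k A B _).mpr ⟨z, rfl⟩
    have h2 : Subsingleton (Algebra.H1Cotangent A B) := by
      have h3 : Function.Injective (Algebra.H1Cotangent.δ k A B) := by
        rw [injective_iff_map_eq_zero]
        intro x hx
        obtain ⟨y, rfl⟩ := (Algebra.H1Cotangent.exact_map_δ k A B x).mp hx
        rw [Subsingleton.elim y 0, map_zero]
      refine subsingleton_of_forall_eq 0 fun x => h3 ?_
      rw [map_zero]
      apply h.1
      rw [map_zero]
      exact (Algebra.H1Cotangent.exact_δ_mapBaseChange k A B _).mpr ⟨x, rfl⟩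
    exact ⟨h1, h2⟩
  · intro h
    exact (tensorKaehlerEquivOfFormallyEtale k A B).bijective

end Unit

section CharZero

theorem det_ne_zero_field {k K L : Type u} [Field k] [CharZero k] [Field K] [Field L] [Algebra k K]
    [Algebra k L] [Algebra K L] [IsScalarTower k K L] {n : ℕ}
    (bK : Module.Basis (Fin n) K Ω[K⁄k]) (bL : Module.Basis (Fin n) L Ω[L⁄k]) :
    (mat bK bL).det ≠ 0 := by
  have : CharZero K := charZero_of_injective_algebraMap (algebraMap k K).injective
  have hfs : Algebra.FormallySmooth K L :=
    Groth.Agent.CalgA.CharZeroFS.formallySmooth_of_charZero K L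
  have hinj : Function.Injective (KaehlerDifferential.mapBaseChange k K L) := by
    rw [injective_iff_map_eq_zero]
    intro x hx
    obtain ⟨y, rfl⟩ := (Algebra.H1Cotangent.exact_δ_mapBaseChange k K L x).mp hx
    rw [Subsingleton.elim y 0, map_zero]
  have h1 : Module.finrank L (L ⊗[K] Ω[K⁄k]) = Module.finrank L Ω[L⁄k] := by
    rw [Module.finrank_eq_card_basis (bK.baseChange L), Module.finrank_eq_card_basis bL]
  have : Module.Finite L (L ⊗[K] Ω[K⁄k]) := Module.Finite.of_basis (bK.baseChange L)
  have : Module.Finite L Ω[L⁄k] := Module.Finite.of_basis bL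
  have h2 : Function.Bijective (KaehlerDifferential.mapBaseChange k K L) :=
    ⟨hinj, (LinearMap.injective_iff_surjective_of_finrank_eq_finrank h1).mp hinj⟩
  exact ((bijective_iff_isUnit_det bK bL).mp h2).ne_zero

/-- For an injective homomorphism of domains over a field of characteristic zero the Jacobian determinant is
not zero. -/
theorem det_ne_zero {k A B : Type u} [Field k] [CharZero k] [CommRing A] [IsDomain A] [CommRing B]
    [IsDomain B] [Algebra k A] [Algebra k B] [Algebra A B] [IsScalarTower k A B]
    (h : Function.Injective (algebraMap A B)) {n : ℕ}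
    (bA : Module.Basis (Fin n) A Ω[A⁄k]) (bB : Module.Basis (Fin n) B Ω[B⁄k]) :
    (mat bA bB).det ≠ 0 := by
  let K := FractionRing A
  let L := FractionRing B
  have hAL : Function.Injective (algebraMap A L) := by
    rw [IsScalarTower.algebraMap_eq A B L]
    exact (IsFractionRing.injective B L).comp h
  let φ : K →+* L := IsFractionRing.lift hAL
  let _ : Algebra K L := φ.toAlgebra
  have i1 : IsScalarTower A K L := IsScalarTower.of_algebraMap_eq fun a =>
    (IsFractionRing.lift_algebraMap hAL a).symm
  have i2 : IsScalarTower k K L := IsScalarTower.of_algebraMap_eq fun a => by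
    rw [IsScalarTower.algebraMap_apply k A K, ← IsScalarTower.algebraMap_apply A K L,
      IsScalarTower.algebraMap_apply A B L, ← IsScalarTower.algebraMap_apply k A B,
      IsScalarTower.algebraMap_apply k B L]
  have i3 : Algebra.FormallyEtale A K := Algebra.FormallyEtale.of_isLocalization (nonZeroDivisors A)
  have i4 : Algebra.FormallyEtale B L := Algebra.FormallyEtale.of_isLocalization (nonZeroDivisors B)
  have h1 := det_ne_zero_field (etBasis K bA) (etBasis L bB)
  have h2 := det_comp bA (etBasis K bA) (etBasis L bB)
  rw [mat_etBasis, Matrix.det_one, map_one, one_mul, det_et bA bB] at h2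
  intro h0
  rw [h0, map_zero] at h2
  exact h1 h2.symm

end CharZero

section Log

open IsDiscreteValuationRing

/-- Logarithmic estimate at a formally etale extension of the target. -/
theorem sum_addVal_le_of_etale {k A B R : Type u} [CommRing k] [CommRing A] [CommRing B]
    [CommRing R] [IsDomain R] [IsDiscreteValuationRing R] [Algebra k A] [Algebra k B] [Algebra k R]
    [Algebra A B] [Algebra A R] [Algebra B R] [IsScalarTower k A B] [IsScalarTower k A R]
    [IsScalarTower k B R] [IsScalarTower A B R] [Algebra.FormallyEtale B R] {n : ℕ}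
    (bA : Module.Basis (Fin n) A Ω[A⁄k]) (bB : Module.Basis (Fin n) B Ω[B⁄k])
    (T : Finset (Fin n)) (t : Fin n → A) (hb : ∀ j ∈ T, bA j = KaehlerDifferential.D k A (t j)) :
    ∑ j ∈ T, addVal R (algebraMap A R (t j)) ≤ 1 + addVal R (algebraMap B R (mat bA bB).det) := by
  rw [← det_et (R := R) bA bB]
  exact sum_addVal_le bA (etBasis R bB) T t hb

end Log

end K134.JacAlg2
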