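import Groth.Agent.Divis.CartierStalk
import Mathlib.RingTheory.DiscreteValuationRing.Basic

/-!
# The order of an ideal (sheaf) at a discrete valuation ring

* `ord I : ℕ∞` for an ideal `I` of a discrete valuation ring: `⨅ a ∈ I, addVal a`;
* `ordI I y` for an ideal sheaf `I` and a point `y` with discrete valuation ring as local ring.
-/

set_option autoImplicit false

universe u

open CategoryTheory AlgebraicGeometry IsDiscreteValuationRing

namespace K134.OrdId

section Ring

variable {R : Type u} [CommRing R] [IsDomain R] [IsDiscreteValuationRing R]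

/-- The order of an ideal of a discrete valuation ring. -/
noncomputable def ord (I : Ideal R) : ℕ∞ := ⨅ a ∈ I, addVal R a

theorem ord_span (a : R) : ord (Ideal.span {a}) = addVal R a := by
  apply le_antisymm
  · exact iInf₂_le a (Ideal.mem_span_singleton_self a)
  · refine le_iInf₂ fun b hb => ?_
    exact addVal_le_iff_dvd.mpr (Ideal.mem_span_singleton.mp hb)

theorem exists_span (I : Ideal R) : ∃ a, I = Ideal.span {a} :=
  ⟨_, (Ideal.span_singleton_generator I).symm⟩

theorem ord_mul (I J : Ideal R) : ord (I * J) = ord I + ord J := by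
  obtain ⟨a, rfl⟩ := exists_span I
  obtain ⟨b, rfl⟩ := exists_span J
  rw [Ideal.span_singleton_mul_span_singleton, ord_span, ord_span, ord_span, addVal_mul]

theorem ord_top : ord (⊤ : Ideal R) = 0 := by
  rw [← Ideal.span_singleton_one, ord_span, addVal_one]

theorem ord_bot : ord (⊥ : Ideal R) = ⊤ := by
  rw [← Ideal.span_singleton_zero, ord_span, addVal_zero]

theorem ord_pow (I : Ideal R) (n : ℕ) : ord (I ^ n) = n • ord I := by
  induction n with
  | zero => rw [pow_zero, Ideal.one_eq_top, ord_top, zero_smul]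
  | succ n ih => rw [pow_succ, ord_mul, ih, succ_nsmul]

theorem ord_anti {I J : Ideal R} (h : I ≤ J) : ord J ≤ ord I :=
  le_iInf₂ fun a ha => iInf₂_le a (h ha)

theorem ord_le_iff {I J : Ideal R} : ord J ≤ ord I ↔ I ≤ J := by
  obtain ⟨a, rfl⟩ := exists_span I
  obtain ⟨b, rfl⟩ := exists_span J
  rw [ord_span, ord_span, addVal_le_iff_dvd, Ideal.span_singleton_le_span_singleton]

theorem ord_eq_top_iff {I : Ideal R} : ord I = ⊤ ↔ I = ⊥ := by
  obtain ⟨a, rfl⟩ := exists_span I
  rw [ord_span, addVal_eq_top_iff, Ideal.span_singleton_eq_bot]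

theorem ord_eq_zero_iff {I : Ideal R} : ord I = 0 ↔ I = ⊤ := by
  obtain ⟨a, rfl⟩ := exists_span I
  rw [ord_span, addVal_eq_zero_iff, Ideal.span_singleton_eq_top]

theorem ord_sup (I J : Ideal R) : ord (I ⊔ J) = min (ord I) (ord J) := by
  apply le_antisymm
  · exact le_min (ord_anti le_sup_left) (ord_anti le_sup_right)
  · rcases le_total (ord I) (ord J) with h | h
    · rw [min_eq_left h]
      exact ord_le_iff.mpr (sup_le le_rfl (ord_le_iff.mp h))
    · rw [min_eq_right h]
      exact ord_le_iff.mpr (sup_le (ord_le_iff.mp h) le_rfl)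

theorem ord_le_of_mem {I : Ideal R} {a : R} (ha : a ∈ I) : ord I ≤ addVal R a := iInf₂_le a ha

theorem mem_iff {I : Ideal R} {a : R} : a ∈ I ↔ ord I ≤ addVal R a := by
  rw [← ord_span, ord_le_iff, Ideal.span_singleton_le_iff_mem]

/-- A surjective local homomorphism with zero kernel preserves orders. -/
theorem ord_map_of_bijective {R' : Type u} [CommRing R'] [IsDomain R'] [IsDiscreteValuationRing R']
    (φ : R →+* R') (hφ : Function.Bijective φ) (I : Ideal R) : ord (I.map φ) = ord I := by
  obtain ⟨a, rfl⟩ := exists_span I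
  rw [Ideal.map_span, Set.image_singleton, ord_span, ord_span]
  obtain ⟨s, hs⟩ := IsDiscreteValuationRing.exists_irreducible R
  let e : R ≃+* R' := RingEquiv.ofBijective φ hφ
  have hs' : Irreducible (φ s) := (MulEquiv.irreducible_iff e).mpr hs
  by_cases ha : a = 0
  · rw [ha, map_zero, addVal_zero, addVal_zero]
  obtain ⟨n, u, rfl⟩ := IsDiscreteValuationRing.eq_unit_mul_pow_irreducible ha hs
  rw [map_mul, map_pow, addVal_def' u hs n]
  exact addVal_def (φ u * φ s ^ n) (Units.map φ.toMonoidHom u) hs' n rfl

end Ring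

section Sheaf

open Groth.Agent.Divis.CartierBasic Groth.Agent.Divis.CartierStalk

variable {X Y : Scheme.{u}}

/-- The order of an ideal sheaf at a point whose local ring is a discrete valuation ring. -/
noncomputable def ordI (I : X.IdealSheafData) (x : X) [IsDomain (X.presheaf.stalk x)]
    [IsDiscreteValuationRing (X.presheaf.stalk x)] : ℕ∞ := ord (stalkIdeal I x)

variable (x : X) [IsDomain (X.presheaf.stalk x)] [IsDiscreteValuationRing (X.presheaf.stalk x)]

theorem ordI_mul (I J : X.IdealSheafData) : ordI (I * J) x = ordI I x + ordI J x := by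
  rw [ordI, stalkIdeal_mul, ord_mul]; rfl

theorem ordI_pow (I : X.IdealSheafData) (n : ℕ) : ordI (I ^ n) x = n • ordI I x := by
  rw [ordI, stalkIdeal_pow, ord_pow]; rfl

theorem ordI_top : ordI (⊤ : X.IdealSheafData) x = 0 := by
  rw [ordI, stalkIdeal_top, ord_top]

theorem ordI_one : ordI (1 : X.IdealSheafData) x = 0 := ordI_top x

theorem ordI_prod {ι : Type*} (s : Finset ι) (D : ι → X.IdealSheafData) :
    ordI (∏ i ∈ s, D i) x = ∑ i ∈ s, ordI (D i) x := by
  classical
  induction s using Finset.induction_on with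
  | empty => rw [Finset.prod_empty, Finset.sum_empty, ordI_one]
  | insert a s has ih => rw [Finset.prod_insert has, Finset.sum_insert has, ordI_mul, ih]

theorem ordI_sup (I J : X.IdealSheafData) : ordI (I ⊔ J) x = min (ordI I x) (ordI J x) := by
  rw [ordI, stalkIdeal_sup, ord_sup]; rfl

theorem ordI_anti {I J : X.IdealSheafData} (h : I ≤ J) : ordI J x ≤ ordI I x :=
  ord_anti (stalkIdeal_mono h x)

theorem ordI_eq_zero_iff (I : X.IdealSheafData) : ordI I x = 0 ↔ x ∉ I.support := by
  rw [notMem_support_iff_stalkIdeal_eq_top]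
  exact ord_eq_zero_iff

theorem ordI_eq_top_iff (I : X.IdealSheafData) : ordI I x = ⊤ ↔ stalkIdeal I x = ⊥ :=
  ord_eq_top_iff

theorem ordI_comap (f : X ⟶ Y) (I : Y.IdealSheafData) :
    ordI (I.comap f) x = ord ((stalkIdeal I (f x)).map (f.stalkMap x).hom) := by
  rw [ordI, stalkIdeal_comap]

/-- Orders are preserved by morphisms which are isomorphisms on local rings. -/
theorem ordI_comap_of_bijective (f : X ⟶ Y) (I : Y.IdealSheafData)
    [IsDomain (Y.presheaf.stalk (f x))] [IsDiscreteValuationRing (Y.presheaf.stalk (f x))]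
    (hf : Function.Bijective (f.stalkMap x).hom) : ordI (I.comap f) x = ordI I (f x) := by
  rw [ordI_comap, ord_map_of_bijective _ hf]; rfl

end Sheaf

end K134.OrdId
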