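import Groth.Agent.AdjLin.K134.JacSheaf
import Groth.Agent.AdjLin.K134.JacAlg2
import Groth.Agent.AdjLin.K134.OrdId
import Groth.Agent.Resolve.K84.Iface
import Groth.Agent.Lift.K235.Chart

/-!
# The Jacobian ideal sheaf, part 2

* `stalkIdeal_jac`: the stalks are generated by the determinant;
* `notMem_support_of_isIso`: `jac f` is trivial where `f` is an isomorphism;
* `isEff_jac`: `jac f` is an effective Cartier divisor if `f` is birational;
* `sum_ordI_le`: the logarithmic estimate for a family of divisors with normal crossings.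
-/

set_option autoImplicit false

universe u

open CategoryTheory CategoryTheory.Limits AlgebraicGeometry TopologicalSpace Opposite
open scoped TensorProduct

namespace K134.JacCart

open Groth.Agent Groth.Agent.SDiv.K474 Groth.Agent.CurvesB.OmegaDer Groth.Agent.Ega2.BasSec
open Groth.Agent.Divis.CartierBasic Groth.Agent.Divis.CartierStalk K134.JacAlg K134.JacAlg2
open K134.JacSheaf K134.OrdId

variable {X Y Z S : Scheme.{u}}

section Stalk

variable {n : ℕ} {f : Y ⟶ X} {p : X ⟶ S}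

theorem stalkIdeal_jac (C : Chart n f p) [SmoothOfRelativeDimension n (f ≫ p)]
    [QuasiSeparated (f ≫ p)] {y : Y} (hy : y ∈ C.V) :
    stalkIdeal (jac f) y = Ideal.span {(Y.presheaf.germ C.V y hy).hom C.det} := by
  rw [stalkIdeal_eq (jac f) ⟨C.V, C.hV⟩ hy, C.jac_ideal_eq, Ideal.map_span, Set.image_singleton]

theorem ordI_jac (C : Chart n f p) [SmoothOfRelativeDimension n (f ≫ p)]
    [QuasiSeparated (f ≫ p)] {y : Y} (hy : y ∈ C.V) [IsDomain (Y.presheaf.stalk y)]
    [IsDiscreteValuationRing (Y.presheaf.stalk y)] :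
    ordI (jac f) y = IsDiscreteValuationRing.addVal _ ((Y.presheaf.germ C.V y hy).hom C.det) := by
  rw [ordI, stalkIdeal_jac C hy, ord_span]

end Stalk

section Iso

/-- `jac f` is trivial where `f` is formally unramified. -/
theorem notMem_support_of_unramified (f : Y ⟶ X) [LocallyOfFiniteType f]
    [QuasiCompact (pullback.diagonal f)] (y : Y) (V : Y.Opens) (hy : y ∈ V)
    [FormallyUnramified (V.ι ≫ f)] : y ∉ (jac f).support :=
  (FittOmega.not_mem_support_zero_iff f y).2 ⟨V, hy, inferInstance⟩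

/-- `jac f` is trivial over an open of the target over which `f` is an isomorphism. -/
theorem notMem_support_of_isIso (f : Y ⟶ X) [LocallyOfFiniteType f]
    [QuasiCompact (pullback.diagonal f)] (V : X.Opens) [IsIso (f ∣_ V)] (y : Y) (hy : f y ∈ V) :
    y ∉ (jac f).support := by
  have h1 : IsOpenImmersion ((f ⁻¹ᵁ V).ι ≫ f) := by
    rw [← morphismRestrict_ι]
    infer_instance
  exact notMem_support_of_unramified f y (f ⁻¹ᵁ V) hy

theorem genericPoint_notMem_of_isBir [IsIntegral Y] [IsIntegral X] (f : Y ⟶ X) [LocallyOfFiniteType f]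
    [QuasiCompact (pullback.diagonal f)] (hf : K84.Iface.IsBir f) :
    genericPoint Y ∉ (jac f).support := by
  obtain ⟨V, ⟨x, hx⟩, hV⟩ := hf
  have h1 : Function.Surjective (f ∣_ V) := (inferInstance : Surjective (f ∣_ V)).surj
  obtain ⟨y, hy⟩ := h1 ⟨x, hx⟩
  have h2 : f y.1 ∈ V := y.2
  have h3 : genericPoint Y ∈ f ⁻¹ᵁ V :=
    (genericPoint_spec Y).mem_open_set_iff (f ⁻¹ᵁ V).2 |>.2 ⟨y.1, trivial, h2⟩
  exact notMem_support_of_isIso f V _ h3

end Iso

section Eff

variable {n : ℕ} {f : Y ⟶ X} {p : X ⟶ S}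

theorem det_chart_ne_zero (C : Chart n f p) [SmoothOfRelativeDimension n (f ≫ p)]
    [QuasiSeparated (f ≫ p)] [IsIntegral Y] (h : genericPoint Y ∉ (jac f).support)
    (hne : (C.V : Set Y).Nonempty) : C.det ≠ 0 := by
  intro h0
  apply h
  have hg : genericPoint Y ∈ C.V := by
    rw [← SetLike.mem_coe]
    exact (genericPoint_spec Y).mem_open_set_iff C.V.2 |>.2 (by simpa using hne)
  rw [mem_support_iff_stalkIdeal_le, stalkIdeal_jac C hg, h0, map_zero, Ideal.span_singleton_zero]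
  exact bot_le

theorem isEff_jac (n : ℕ) (f : Y ⟶ X) (p : X ⟶ S) [SmoothOfRelativeDimension n p]
    [QuasiSeparated p] [SmoothOfRelativeDimension n (f ≫ p)] [QuasiSeparated (f ≫ p)]
    [IsIntegral Y] (h : genericPoint Y ∉ (jac f).support) : BlowUp.IsEffCartierIdeal (jac f) := by
  intro y
  obtain ⟨C, hC, -⟩ := exists_chart_le n f p y ⊤ trivial
  have hne : (C.V : Set Y).Nonempty := ⟨y, hC⟩
  have : Nonempty C.V := ⟨⟨y, hC⟩⟩
  refine ⟨⟨C.V, C.hV⟩, hC, C.det, ?_, C.jac_ideal_eq⟩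
  have : IsDomain Γ(Y, C.V) := inferInstance
  exact mem_nonZeroDivisors_of_ne_zero (det_chart_ne_zero C h hne)

theorem isEff_jac_of_isBir (n : ℕ) (f : Y ⟶ X) (p : X ⟶ S) [SmoothOfRelativeDimension n p]
    [QuasiSeparated p] [SmoothOfRelativeDimension n (f ≫ p)] [QuasiSeparated (f ≫ p)]
    [IsIntegral Y] [IsIntegral X] (hf : K84.Iface.IsBir f) : BlowUp.IsEffCartierIdeal (jac f) := by
  have i1 := locallyOfFiniteType_of_comp' n f p
  have i2 := quasiCompact_diagonal_of_comp f p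
  exact isEff_jac n f p (genericPoint_notMem_of_isBir f hf)

end Eff

section Log

open IsDiscreteValuationRing

theorem eq_of_bases {R M : Type*} [CommRing R] [Nontrivial R] [AddCommGroup M] [Module R M] {m n : ℕ}
    (b : Module.Basis (Fin m) R M) (c : Module.Basis (Fin n) R M) : m = n := by
  simpa using Fintype.card_congr (b.indexEquiv c)

theorem sum_option {r m : ℕ} (e : Fin r → Option (Fin m))
    (inj : ∀ i j k, e i = some k → e j = some k → i = j) (F : Fin r → ℕ∞) (G : Fin m → ℕ∞)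
    (h0 : ∀ i, e i = none → F i = 0) (h1 : ∀ i k, e i = some k → F i = G k) [DecidablePred fun k => ∃ i, e i = some k] :
    ∑ i, F i = ∑ k ∈ Finset.univ.filter (fun k => ∃ i, e i = some k), G k := by
  classical
  have h2 : ∀ i, F i = ∑ k, if e i = some k then G k else 0 := by
    intro i
    rcases he : e i with _ | k
    · rw [h0 i he]
      simp
    · rw [h1 i k he]
      simp
  rw [Finset.sum_congr rfl fun i _ => h2 i, Finset.sum_comm, Finset.sum_filter]
  refine Finset.sum_congr rfl fun k _ => ?_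
  split_ifs with h
  · obtain ⟨i, hi⟩ := h
    rw [Finset.sum_eq_single i]
    · rw [if_pos hi]
    · intro j _ hj
      rw [if_neg fun h3 => hj (inj j i k h3 hi)]
    · intro h3
      exact absurd (Finset.mem_univ i) h3
  · refine Finset.sum_eq_zero fun i _ => ?_
    rw [if_neg fun h3 => h ⟨i, h3⟩]

/-- The logarithmic estimate for a family of divisors with normal crossings. -/
theorem sum_ordI_le (n : ℕ) {r : ℕ} (g : Z ⟶ Y) (p : Y ⟶ S) [SmoothOfRelativeDimension n p]
    [QuasiSeparated p] [SmoothOfRelativeDimension n (g ≫ p)] [QuasiSeparated (g ≫ p)]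
    (E : Fin r → Y.IdealSheafData) (hE : LogNCD.IsNCD E p) (z : Z)
    [IsDomain (Z.presheaf.stalk z)] [IsDiscreteValuationRing (Z.presheaf.stalk z)] :
    ∑ i, ordI ((E i).comap g) z ≤ 1 + ordI (jac g) z := by
  classical
  have hsm : Smooth p := SmoothOfRelativeDimension.smooth n p
  have i1 := locallyOfFiniteType_of_comp' n g p
  have i2 := quasiCompact_diagonal_of_comp g p
  obtain ⟨N, hN, hNb⟩ := exists_basis n p (g z)
  obtain ⟨W, U, hzU, hUN, ⟨c⟩⟩ := K235.Chart.hasCharts_of_isNCD p hE (g z) N hN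
  obtain ⟨N', hN', hNb'⟩ := exists_basis n (g ≫ p) z
  obtain ⟨V, hV, hzV, hVN⟩ := exists_isAffineOpen_mem_and_subset (x := z)
    (U := N' ⊓ g ⁻¹ᵁ U.1) ⟨hN', hzU⟩
  have e₂ : V ≤ g ⁻¹ᵁ U.1 := fun z hz => (hVN hz).2
  have e₃ : V ≤ (g ≫ p) ⁻¹ᵁ W.1 := fun z hz => c.le (e₂ hz)
  obtain ⟨b₀⟩ := hNb W.1 U.1 c.le W.2 U.2 hUN
  obtain ⟨b⟩ := hNb' W.1 V e₃ W.2 hV fun z hz => (hVN hz).1
  let iA := algX p c.le
  let iB := algX g e₂
  let iC := algX (g ≫ p) e₃
  have iT := isScalarTower_algX g p c.le e₂ e₃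
  obtain ⟨bc, hbc⟩ := exists_basis_coord (k := Γ(S, W.1)) c.v c.etale
  have hne : Nontrivial Γ(Y, U.1) := by
    have : Nonempty U.1 := ⟨⟨g z, hzU⟩⟩
    infer_instance
  have hn : c.n = n := eq_of_bases bc b₀
  let b' := b.reindex (finCongr hn.symm)
  let iR : Algebra Γ(Z, V) (Z.presheaf.stalk z) := Z.presheaf.algebra_section_stalk ⟨z, hzV⟩
  have iloc : IsLocalization.AtPrime (Z.presheaf.stalk z) (hV.primeIdealOf ⟨z, hzV⟩).asIdeal :=
    hV.isLocalization_stalk ⟨z, hzV⟩
  have iet : Algebra.FormallyEtale Γ(Z, V) (Z.presheaf.stalk z) :=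
    Algebra.FormallyEtale.of_isLocalization (hV.primeIdealOf ⟨z, hzV⟩).asIdeal.primeCompl
  let iAR : Algebra Γ(Y, U.1) (Z.presheaf.stalk z) :=
    ((algebraMap Γ(Z, V) (Z.presheaf.stalk z)).comp (algebraMap Γ(Y, U.1) Γ(Z, V))).toAlgebra
  let ikR : Algebra Γ(S, W.1) (Z.presheaf.stalk z) :=
    ((algebraMap Γ(Z, V) (Z.presheaf.stalk z)).comp (algebraMap Γ(S, W.1) Γ(Z, V))).toAlgebra
  have t1 : IsScalarTower Γ(Y, U.1) Γ(Z, V) (Z.presheaf.stalk z) :=
    IsScalarTower.of_algebraMap_eq fun _ => rfl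
  have t2 : IsScalarTower Γ(S, W.1) Γ(Z, V) (Z.presheaf.stalk z) :=
    IsScalarTower.of_algebraMap_eq fun _ => rfl
  have t3 : IsScalarTower Γ(S, W.1) Γ(Y, U.1) (Z.presheaf.stalk z) :=
    IsScalarTower.of_algebraMap_eq fun a => by
      rw [IsScalarTower.algebraMap_apply Γ(S, W.1) Γ(Z, V) (Z.presheaf.stalk z),
        IsScalarTower.algebraMap_apply Γ(S, W.1) Γ(Y, U.1) Γ(Z, V),
        ← IsScalarTower.algebraMap_apply Γ(Y, U.1) Γ(Z, V) (Z.presheaf.stalk z)]
  have h1 := sum_addVal_le_of_etale (R := Z.presheaf.stalk z) bc b'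
    (Finset.univ.filter (fun k => ∃ i, c.e i = some k)) c.v (fun j _ => hbc j)
  have h2 : ordI (jac g) z = addVal (Z.presheaf.stalk z)
      (algebraMap Γ(Z, V) (Z.presheaf.stalk z) (mat bc b').det) := by
    rw [ordI, stalkIdeal_eq (jac g) ⟨V, hV⟩ hzV, jac_ideal g e₂ U.2 hV, fitt_omega bc b',
      Ideal.map_span, Set.image_singleton, ord_span]
    rfl
  rw [h2]
  refine le_trans (le_of_eq ?_) h1
  have h3 : ∀ i, ordI ((E i).comap g) z =
      ord (((E i).ideal U).map (algebraMap Γ(Y, U.1) (Z.presheaf.stalk z))) := by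
    intro i
    rw [ordI, stalkIdeal_eq _ ⟨V, hV⟩ hzV, Divis.IdealComap.ideal_comap (E i) g U ⟨V, hV⟩ e₂,
      Ideal.map_map]
    rfl
  refine sum_option c.e c.inj _ _ (fun i hi => ?_) (fun i k hi => ?_)
  · rw [h3, c.ideal_none i hi, Ideal.map_top, ord_top]
  · rw [h3, c.ideal_some i k hi, Ideal.map_span, Set.image_singleton, ord_span]

end Log

end K134.JacCart
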