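import Groth.Agent.AdjLin.K134.JacCart
import Groth.Agent.S11555
import Groth.Agent.S7885
import Groth.Agent.Grpsch.AmpBuild
import Groth.Agent.Resolve.K588.Bir
import Groth.Agent.ArSurf.K480.Rigid

/-!
# Rational functions on a modification

* `isBir_dix`: a proper birational morphism (`K84.Iface.IsBir`) is birational in the sense of `Dix.ExcPts.IsBir`;
* `isIso_app`: `f_* O_Y = O_X`;
* `exists_section_of_iso_locus`: a rational function on `Y` which is regular where `f : Y ⟶ X` is an isomorphism, comes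
  from a function on `X`;
* `exists_section_of_mul_mem` (J3).
-/

set_option autoImplicit false

universe u

open CategoryTheory CategoryTheory.Limits AlgebraicGeometry TopologicalSpace Opposite

namespace K134.JacRat

open Groth.Agent Groth.Agent.Divis.CartierBasic Groth.Agent.Divis.CartierStalk
open K134.JacSheaf K134.JacCart K84.Iface Groth.Agent.Fdesc.LocGen

variable {X Y : Scheme.{u}} [IsIntegral X] [IsIntegral Y]

theorem isIso_stalkMap_generic {f : Y ⟶ X} (hf : IsBir f) : IsIso (f.stalkMap (genericPoint Y)) := by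
  have h1 := K588.Bir.map_genericPoint hf
  obtain ⟨V, hne, hV⟩ := hf
  exact K588.Bir.isIso_stalkMap_of_mem f hV (by rw [h1]; exact K588.Bir.genericPoint_mem hne)

theorem isBir_dix (f : Y ⟶ X) [IsProper f] (hf : IsBir f) : Dix.ExcPts.IsBir f :=
  ⟨inferInstance, K588.Bir.map_genericPoint hf, isIso_stalkMap_generic hf⟩

variable [IsLocallyNoetherian X]

theorem isIso_app (hX : ∀ x : X, IsIntegrallyClosed (X.presheaf.stalk x)) (f : Y ⟶ X) [IsProper f]
    (hf : IsBir f) (V : X.Opens) : IsIso (f.app V) := by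
  have : IsLocallyNoetherian Y := LocallyOfFiniteType.isLocallyNoetherian f
  exact K480.Rigid.isIso_app_of_isBir hX f (isBir_dix f hf) V

/-- A rational function on `Y` which is regular where `f` is an isomorphism comes from `X`. -/
theorem exists_section_of_iso_locus (hX : ∀ x : X, IsIntegrallyClosed (X.presheaf.stalk x)) (f : Y ⟶ X)
    [IsProper f] (hf : IsBir f) (U : X.Opens) [Nonempty (f ⁻¹ᵁ U)] (F : Y.functionField)
    (h : ∀ V : X.Opens, IsIso (f ∣_ V) → ∀ y, f y ∈ U → f y ∈ V →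
      ∃ b : Y.presheaf.stalk y, algebraMap _ Y.functionField b = F) :
    ∃ s : Γ(X, U), Y.germToFunctionField (f ⁻¹ᵁ U) ((f.app U).hom s) = F := by
  have hN : Pi1.IsNormalScheme X := fun x => ⟨inferInstance, hX x⟩
  obtain ⟨V, hV, -, hcod⟩ := S11555.result f hN (K588.Bir.map_genericPoint hf)
    ((ConcreteCategory.isIso_iff_bijective _).1 (isIso_stalkMap_generic hf))
  have hgV : genericPoint X ∈ V := by
    by_contra hg
    have h2 := hcod _ hg
    have h3 : ringKrullDim (X.presheaf.stalk (genericPoint X)) = 0 :=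
      ringKrullDim_eq_zero_of_field X.functionField
    rw [h3] at h2
    exact absurd h2 (by decide)
  have hgY : genericPoint Y ∈ f ⁻¹ᵁ U := by
    obtain ⟨y⟩ := (inferInstance : Nonempty (f ⁻¹ᵁ U))
    exact K588.Bir.genericPoint_mem ⟨y.1, y.2⟩
  have hgY' : genericPoint Y ∈ f ⁻¹ᵁ (U ⊓ V) := by
    refine ⟨hgY, ?_⟩
    change f (genericPoint Y) ∈ V
    rw [K588.Bir.map_genericPoint hf]
    exact hgV
  have hne : Nonempty (f ⁻¹ᵁ (U ⊓ V)) := ⟨⟨_, hgY'⟩⟩
  obtain ⟨t, ht⟩ := Grpsch.AmpBuild.exists_section_of_forall (f ⁻¹ᵁ (U ⊓ V)) F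
    (fun y hy => h V hV y hy.1 hy.2)
  have h4 := isIso_app hX f hf (U ⊓ V)
  obtain ⟨s', hs'⟩ := ((ConcreteCategory.isIso_iff_bijective _).1 h4).2 t
  obtain ⟨s, hs⟩ := (S7885.hartogs_fun hN V hcod (S7885.isInvertible_structureModule X) U).2 s'
  refine ⟨s, ?_⟩
  have hle : f ⁻¹ᵁ (U ⊓ V) ≤ f ⁻¹ᵁ U := fun y hy => hy.1
  have h5 : (Y.presheaf.map (homOfLE hle).op).hom ((f.app U).hom s) = t := by
    rw [← hs', ← hs]
    have h6 := f.naturality (homOfLE (inf_le_left : U ⊓ V ≤ U)).op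
    exact (congrArg (fun φ => φ.hom s) h6).symm
  rw [← ht, ← h5]
  exact (Y.presheaf.germ_res_apply _ _ _ _).symm

/-- (J3): `F · J_y ⊆ O_y` for all `y` over `U` implies that `F` is a function on `U`. -/
theorem exists_section_of_mul_mem (hX : ∀ x : X, IsIntegrallyClosed (X.presheaf.stalk x)) (f : Y ⟶ X)
    [IsProper f] (hf : IsBir f) (J : Y.IdealSheafData)
    (hJ : ∀ V : X.Opens, IsIso (f ∣_ V) → ∀ y, f y ∈ V → y ∉ J.support)
    (U : X.Opens) [Nonempty (f ⁻¹ᵁ U)] (F : Y.functionField)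
    (h : ∀ y, f y ∈ U → ∀ a ∈ stalkIdeal J y, ∃ b : Y.presheaf.stalk y,
      algebraMap _ Y.functionField b = F * algebraMap _ Y.functionField a) :
    ∃ s : Γ(X, U), Y.germToFunctionField (f ⁻¹ᵁ U) ((f.app U).hom s) = F := by
  refine exists_section_of_iso_locus hX f hf U F fun V hV y hyU hyV => ?_
  have h1 : stalkIdeal J y = ⊤ := (notMem_support_iff_stalkIdeal_eq_top J y).1 (hJ V hV y hyV)
  obtain ⟨b, hb⟩ := h y hyU 1 (by rw [h1]; trivial)
  exact ⟨b, by rw [hb, map_one, mul_one]⟩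

/-- (J3) for the Jacobian ideal. -/
theorem exists_section_of_mul_jac (hX : ∀ x : X, IsIntegrallyClosed (X.presheaf.stalk x)) (f : Y ⟶ X)
    [IsProper f] (hf : IsBir f) (U : X.Opens) [Nonempty (f ⁻¹ᵁ U)] (F : Y.functionField)
    (h : ∀ y, f y ∈ U → ∀ a ∈ stalkIdeal (jac f) y, ∃ b : Y.presheaf.stalk y,
      algebraMap _ Y.functionField b = F * algebraMap _ Y.functionField a) :
    ∃ s : Γ(X, U), Y.germToFunctionField (f ⁻¹ᵁ U) ((f.app U).hom s) = F :=
  exists_section_of_mul_mem hX f hf (jac f)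
    (fun V _ y hy => notMem_support_of_isIso f V y hy) U F h

end K134.JacRat
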