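import Groth.Agent.AdjLin.K134.JacStalk
import Groth.Agent.AdjLin.K134.JacRat
import Groth.Agent.Fitt.K360.Fiber

/-!
# The support of the Jacobian ideal of a birational morphism

`f : Y ⟶ X` proper birational, `X` normal:
* `exists_iso_locus`: the complement of the support of `jac f` is `f⁻¹ V` where `f` is an isomorphism over `V` and `V`
  contains all points of codimension at most one;
* `one_le_ordI_jac`: `1 ≤ ord_y (jac f)` if `O_{Y,y}` is a discrete valuation ring and `dim O_{X, f y} ≥ 2`;
* `bijective_stalkMap_of_ordI`: conversely the order is zero only if `f` is an isomorphism near `y`.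
-/

set_option autoImplicit false

universe u

open CategoryTheory CategoryTheory.Limits AlgebraicGeometry TopologicalSpace Opposite
open scoped TensorProduct

namespace K134.JacExc

open Groth.Agent Groth.Agent.Divis.CartierBasic Groth.Agent.Divis.CartierStalk
open K134.JacSheaf K134.JacCart K134.JacStalk K134.JacRat K134.OrdId K84.Iface

variable {X Y : Scheme.{u}}

theorem quasiFiniteAt_of_notMem (f : Y ⟶ X) [LocallyOfFiniteType f]
    [QuasiCompact (pullback.diagonal f)] (y : Y) (hy : y ∉ (jac f).support) : f.QuasiFiniteAt y := by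
  have h0 := stalkIdeal_jac_fitt f y
  rw [notMem_support_iff_stalkIdeal_eq_top] at hy
  have h1 : (f.stalkMap y).hom.EssFiniteType := LocallyOfFiniteType.stalkMap f y
  let := (f.stalkMap y).hom.toAlgebra
  have h3 : Algebra.EssFiniteType (X.presheaf.stalk (f y)) (Y.presheaf.stalk y) := h1
  have h2 : Fitt.ideal (Y.presheaf.stalk y) Ω[Y.presheaf.stalk y⁄X.presheaf.stalk (f y)] 0 = ⊤ :=
    h0.symm.trans hy
  have h4 := K360.FittFiber.ideal_zero_le_annihilator (R := Y.presheaf.stalk y)
    (M := Ω[Y.presheaf.stalk y⁄X.presheaf.stalk (f y)])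
  have h5 : Algebra.FormallyUnramified (X.presheaf.stalk (f y)) (Y.presheaf.stalk y) := by
    rw [Algebra.formallyUnramified_iff]
    refine subsingleton_of_forall_eq 0 fun a => ?_
    have h6 : (1 : Y.presheaf.stalk y) ∈ Module.annihilator (Y.presheaf.stalk y)
        Ω[Y.presheaf.stalk y⁄X.presheaf.stalk (f y)] := h4 (by rw [h2]; trivial)
    have h7 := Module.mem_annihilator.1 h6 a
    rwa [one_smul] at h7
  have h8 : Algebra.QuasiFinite (X.presheaf.stalk (f y)) (Y.presheaf.stalk y) := inferInstance
  exact h8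

variable [IsIntegral X] [IsIntegral Y] [IsLocallyNoetherian X]

/-- The complement of the support of the Jacobian ideal is the preimage of the locus over which `f` is an isomorphism. -/
theorem exists_iso_locus (hX : ∀ x : X, IsIntegrallyClosed (X.presheaf.stalk x)) (f : Y ⟶ X) [IsProper f]
    (hf : IsBir f) : ∃ V : X.Opens, IsIso (f ∣_ V) ∧ (∀ y, f y ∈ V ↔ y ∉ (jac f).support) ∧
      ∀ x : X, x ∉ V → 2 ≤ ringKrullDim (X.presheaf.stalk x) := by
  have hN : Pi1.IsNormalScheme X := fun x => ⟨inferInstance, hX x⟩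
  have h1 := K588.Bir.map_genericPoint hf
  have h2 := (ConcreteCategory.isIso_iff_bijective _).1 (isIso_stalkMap_generic hf)
  obtain ⟨V, hV, hqf, -⟩ := K415.ZMT.exists_open (K415.ZMT.intClosedOn_of_normal hN h1 h2)
  refine ⟨V, hV, fun y => ⟨fun hy => notMem_support_of_isIso f V y hy, fun hy => ?_⟩, fun x hx => ?_⟩
  · exact (hqf y).2 (quasiFiniteAt_of_notMem f y hy)
  · exact K415.ZMT.two_le_ringKrullDim h1 h2 V hqf x hx

theorem bijective_stalkMap_of_notMem (hX : ∀ x : X, IsIntegrallyClosed (X.presheaf.stalk x)) (f : Y ⟶ X)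
    [IsProper f] (hf : IsBir f) (y : Y) (hy : y ∉ (jac f).support) :
    Function.Bijective (f.stalkMap y).hom := by
  obtain ⟨V, hV, h, -⟩ := exists_iso_locus hX f hf
  exact (ConcreteCategory.isIso_iff_bijective _).1
    (K588.Bir.isIso_stalkMap_of_mem f hV ((h y).2 hy))

/-- A point of codimension one which is mapped to a point of codimension at least two lies in the support. -/
theorem mem_support_of_two_le (hX : ∀ x : X, IsIntegrallyClosed (X.presheaf.stalk x)) (f : Y ⟶ X)
    [IsProper f] (hf : IsBir f) (y : Y) (hy : ringKrullDim (Y.presheaf.stalk y) ≤ 1)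
    (hx : 2 ≤ ringKrullDim (X.presheaf.stalk (f y))) : y ∈ (jac f).support := by
  by_contra h
  have h1 := bijective_stalkMap_of_notMem hX f hf y h
  have h2 := ringKrullDim_eq_of_ringEquiv (RingEquiv.ofBijective (f.stalkMap y).hom h1)
  rw [h2] at hx
  have h3 := hx.trans hy
  exact absurd h3 (by decide)

theorem one_le_ordI_jac (hX : ∀ x : X, IsIntegrallyClosed (X.presheaf.stalk x)) (f : Y ⟶ X)
    [IsProper f] (hf : IsBir f) (y : Y) [IsDiscreteValuationRing (Y.presheaf.stalk y)]
    (hx : 2 ≤ ringKrullDim (X.presheaf.stalk (f y))) : 1 ≤ ordI (jac f) y := by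
  have h1 : ringKrullDim (Y.presheaf.stalk y) ≤ 1 := by
    have := IsPrincipalIdealRing.krullDimLE_one (Y.presheaf.stalk y)
    simpa using (Ring.krullDimLE_iff (n := 1)).1 this
  have h2 := mem_support_of_two_le hX f hf y h1 hx
  rw [Order.one_le_iff_ne_zero]
  intro h3
  exact (ordI_eq_zero_iff y (jac f)).1 h3 h2

theorem ordI_jac_eq_zero (hX : ∀ x : X, IsIntegrallyClosed (X.presheaf.stalk x)) (f : Y ⟶ X)
    [IsProper f] (hf : IsBir f) (y : Y) [IsDiscreteValuationRing (Y.presheaf.stalk y)]
    (hx : ringKrullDim (X.presheaf.stalk (f y)) ≤ 1) : ordI (jac f) y = 0 := by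
  obtain ⟨V, hV, h, hcod⟩ := exists_iso_locus hX f hf
  rw [ordI_eq_zero_iff]
  refine (h y).1 ?_
  by_contra hy
  have h3 := (hcod _ hy).trans hx
  exact absurd h3 (by decide)


end K134.JacExc
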