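import Groth.Agent.AdjLin.K134.JacAlg
import Groth.Agent.SDiv.K474.FittOmega
import Groth.Agent.Dual.H339.OmegaRank
import Groth.Agent.Divis.CartierBasic

/-!
# The Jacobian ideal sheaf

* `jac f := Fitt.sheafIdeal (Omega.sheaf f) 0` for `f : Y ⟶ X`;
* `exists_chart`: for `X`, `Y` smooth of relative dimension `n` over `S`, around every point of `Y` there are affine
  opens with bases of `Ω`, and `(jac f).ideal V = (det)`;
* `jac_comp`: `jac (g ≫ f) = (jac f).comap g * jac g`.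
-/

set_option autoImplicit false

universe u

open CategoryTheory CategoryTheory.Limits AlgebraicGeometry TopologicalSpace Opposite
open scoped TensorProduct

namespace K134.JacSheaf

open Groth.Agent Groth.Agent.SDiv.K474 Groth.Agent.CurvesB.OmegaDer Groth.Agent.Ega2.BasSec
open Groth.Agent.Divis.CartierBasic K134.JacAlg

variable {X Y Z S : Scheme.{u}}

/-- The Jacobian ideal of `f`: the zeroth Fitting ideal of the sheaf of relative differentials. -/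
noncomputable def jac (f : Y ⟶ X) : Y.IdealSheafData := Fitt.sheafIdeal (Omega.sheaf f) 0

theorem jac_ideal (f : Y ⟶ X) [LocallyOfFiniteType f] [QuasiCompact (pullback.diagonal f)]
    {U : X.Opens} {V : Y.Opens} (e : V ≤ f ⁻¹ᵁ U) (hU : IsAffineOpen U) (hV : IsAffineOpen V) :
    letI := algX f e
    (jac f).ideal ⟨V, hV⟩ = Fitt.ideal Γ(Y, V) Ω[Γ(Y, V)⁄Γ(X, U)] 0 := by
  let := algX f e
  have h1 : Algebra.FiniteType Γ(X, U) Γ(Y, V) :=
    LocallyOfFiniteType.finiteType_appLE f hU hV e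
  obtain ⟨E⟩ := FittOmega.nonempty_equiv f e hU hV
  rw [jac, FittSheaf.sheafIdeal_ideal _ (Vancyc.H878.OmegaRank.isQCoh_omega f) (FittOmega.isFT_omega f)]
  exact (K360.FittBasic.ideal_congr E 0).symm

theorem exists_basis (n : ℕ) (p : X ⟶ S) [SmoothOfRelativeDimension n p] [QuasiSeparated p] (x : X) :
    ∃ N : X.Opens, x ∈ N ∧ ∀ (W : S.Opens) (U : X.Opens) (e : U ≤ p ⁻¹ᵁ W), IsAffineOpen W →
      IsAffineOpen U → U ≤ N →
      (letI := algX p e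
       Nonempty (Module.Basis (Fin n) Γ(X, U) Ω[Γ(X, U)⁄Γ(S, W)])) := by
  have h1 := Dual.H339.OmegaRank.isFinLocFreeOfRank_omega n p
  obtain ⟨N, hN, b, hx, hb⟩ := FittLoc.exists_affine_isBas _ h1 x
  refine ⟨N, hx, fun W U e hW hU hUN => ?_⟩
  let := algX p e
  obtain ⟨E⟩ := FittOmega.nonempty_equiv p e hW hU
  have h2 := (hb.res hUN).bijective
  obtain ⟨b', -⟩ := (comb_bijective_iff _).1 h2
  exact ⟨b'.map E.symm⟩

theorem isScalarTower_algX (f : Y ⟶ X) (p : X ⟶ S) {W : S.Opens} {U : X.Opens} {V : Y.Opens}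
    (e₁ : U ≤ p ⁻¹ᵁ W) (e₂ : V ≤ f ⁻¹ᵁ U) (e₃ : V ≤ (f ≫ p) ⁻¹ᵁ W) :
    letI := algX p e₁
    letI := algX f e₂
    letI := algX (f ≫ p) e₃
    IsScalarTower Γ(S, W) Γ(X, U) Γ(Y, V) := by
  let := algX p e₁
  let := algX f e₂
  let := algX (f ≫ p) e₃
  refine IsScalarTower.of_algebraMap_eq fun c => ?_
  change ((f ≫ p).appLE W V e₃).hom c = (f.appLE U V e₂).hom ((p.appLE W U e₁).hom c)
  rw [← Scheme.Hom.appLE_comp_appLE f p W U V e₁ e₂]
  rfl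

/-- A chart: affine opens `W ⊆ S`, `U ⊆ X`, `V ⊆ Y` over each other with bases of differentials. -/
structure Chart (n : ℕ) (f : Y ⟶ X) (p : X ⟶ S) where
  W : S.Opens
  U : X.Opens
  V : Y.Opens
  hW : IsAffineOpen W
  hU : IsAffineOpen U
  hV : IsAffineOpen V
  e₁ : U ≤ p ⁻¹ᵁ W
  e₂ : V ≤ f ⁻¹ᵁ U
  e₃ : V ≤ (f ≫ p) ⁻¹ᵁ W
  bX : letI := algX p e₁
    Module.Basis (Fin n) Γ(X, U) Ω[Γ(X, U)⁄Γ(S, W)]
  bY : letI := algX (f ≫ p) e₃
    Module.Basis (Fin n) Γ(Y, V) Ω[Γ(Y, V)⁄Γ(S, W)]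

theorem exists_chart_le (n : ℕ) (f : Y ⟶ X) (p : X ⟶ S) [SmoothOfRelativeDimension n p]
    [QuasiSeparated p] [SmoothOfRelativeDimension n (f ≫ p)] [QuasiSeparated (f ≫ p)] (y : Y)
    (V₀ : Y.Opens) (hy : y ∈ V₀) : ∃ C : Chart n f p, y ∈ C.V ∧ C.V ≤ V₀ := by
  obtain ⟨W, hW, hyW, -⟩ := exists_isAffineOpen_mem_and_subset (x := p (f y)) (U := ⊤) trivial
  obtain ⟨N, hN, hNb⟩ := exists_basis n p (f y)
  obtain ⟨N', hN', hNb'⟩ := exists_basis n (f ≫ p) y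
  obtain ⟨U, hU, hyU, hUN⟩ := exists_isAffineOpen_mem_and_subset (x := f y) (U := N ⊓ p ⁻¹ᵁ W)
    ⟨hN, hyW⟩
  obtain ⟨V, hV, hyV, hVN⟩ := exists_isAffineOpen_mem_and_subset (x := y)
    (U := (N' ⊓ f ⁻¹ᵁ U) ⊓ V₀) ⟨⟨hN', hyU⟩, hy⟩
  have e₁ : U ≤ p ⁻¹ᵁ W := fun z hz => (hUN hz).2
  have e₂ : V ≤ f ⁻¹ᵁ U := fun z hz => (hVN hz).1.2
  have e₃ : V ≤ (f ≫ p) ⁻¹ᵁ W := fun z hz => e₁ (e₂ hz)
  obtain ⟨b⟩ := hNb W U e₁ hW hU fun z hz => (hUN hz).1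
  obtain ⟨b'⟩ := hNb' W V e₃ hW hV fun z hz => (hVN hz).1.1
  exact ⟨⟨W, U, V, hW, hU, hV, e₁, e₂, e₃, b, b'⟩, hyV, fun z hz => (hVN hz).2⟩

section OfComp

variable (n : ℕ) (f : Y ⟶ X) (p : X ⟶ S)

theorem locallyOfFiniteType_of_comp' [SmoothOfRelativeDimension n (f ≫ p)] :
    LocallyOfFiniteType f := by
  have h1 : Smooth (f ≫ p) := SmoothOfRelativeDimension.smooth n (f ≫ p)
  exact locallyOfFiniteType_of_comp f p

theorem quasiCompact_diagonal_of_comp [QuasiSeparated (f ≫ p)] :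
    QuasiCompact (pullback.diagonal f) := by
  have h1 : QuasiSeparated f := QuasiSeparated.of_comp f p
  infer_instance

end OfComp

variable {n : ℕ} {f : Y ⟶ X} {p : X ⟶ S}

/-- The Jacobian determinant in a chart. -/
noncomputable def Chart.det (C : Chart n f p) : Γ(Y, C.V) :=
  letI := algX p C.e₁
  letI := algX f C.e₂
  letI := algX (f ≫ p) C.e₃
  haveI := isScalarTower_algX f p C.e₁ C.e₂ C.e₃
  (mat C.bX C.bY).det

theorem Chart.jac_ideal_eq (C : Chart n f p) [SmoothOfRelativeDimension n (f ≫ p)]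
    [QuasiSeparated (f ≫ p)] : (jac f).ideal ⟨C.V, C.hV⟩ = Ideal.span {C.det} := by
  have h1 := locallyOfFiniteType_of_comp' n f p
  have h2 := quasiCompact_diagonal_of_comp f p
  rw [jac_ideal f C.e₂ C.hU C.hV]
  let := algX p C.e₁
  let := algX f C.e₂
  let := algX (f ≫ p) C.e₃
  have := isScalarTower_algX f p C.e₁ C.e₂ C.e₃
  exact fitt_omega C.bX C.bY

/-- The Jacobian ideal of a composite. -/
theorem jac_comp (n : ℕ) (g : Z ⟶ Y) (f : Y ⟶ X) (p : X ⟶ S) [SmoothOfRelativeDimension n p]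
    [QuasiSeparated p] [SmoothOfRelativeDimension n (f ≫ p)] [QuasiSeparated (f ≫ p)]
    [SmoothOfRelativeDimension n (g ≫ f ≫ p)] [QuasiSeparated (g ≫ f ≫ p)] :
    jac (g ≫ f) = (jac f).comap g * jac g := by
  have i1 := locallyOfFiniteType_of_comp' n f p
  have i2 := quasiCompact_diagonal_of_comp f p
  have i3 := locallyOfFiniteType_of_comp' n g (f ≫ p)
  have i4 := quasiCompact_diagonal_of_comp g (f ≫ p)
  have i5 : SmoothOfRelativeDimension n ((g ≫ f) ≫ p) := by rw [Category.assoc]; infer_instance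
  have i6 : QuasiSeparated ((g ≫ f) ≫ p) := by rw [Category.assoc]; infer_instance
  have i7 := locallyOfFiniteType_of_comp' n (g ≫ f) p
  have i8 := quasiCompact_diagonal_of_comp (g ≫ f) p
  refine Divis.IdealComap.ext_of_forall_mem fun z => ?_
  obtain ⟨C, hC, -⟩ := exists_chart_le n f p (g z) ⊤ trivial
  obtain ⟨N', hN', hNb'⟩ := exists_basis n (g ≫ f ≫ p) z
  obtain ⟨V, hV, hzV, hVN⟩ := exists_isAffineOpen_mem_and_subset (x := z)
    (U := N' ⊓ g ⁻¹ᵁ C.V) ⟨hN', hC⟩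
  refine ⟨⟨V, hV⟩, hzV, ?_⟩
  have e₄ : V ≤ g ⁻¹ᵁ C.V := fun z hz => (hVN hz).2
  have e₅ : V ≤ (g ≫ f) ⁻¹ᵁ C.U := fun z hz => C.e₂ (e₄ hz)
  have e₆ : V ≤ (g ≫ f ≫ p) ⁻¹ᵁ C.W := fun z hz => C.e₃ (e₄ hz)
  obtain ⟨b⟩ := hNb' C.W V e₆ C.hW hV fun z hz => (hVN hz).1
  rw [jac_ideal (g ≫ f) e₅ C.hU hV, Scheme.IdealSheafData.ideal_mul, Pi.mul_apply,
    Divis.IdealComap.ideal_comap (jac f) g ⟨C.V, C.hV⟩ ⟨V, hV⟩ e₄, jac_ideal g e₄ C.hV hV,
    jac_ideal f C.e₂ C.hU C.hV]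
  let := algX p C.e₁
  let := algX f C.e₂
  let := algX (f ≫ p) C.e₃
  let := algX g e₄
  let := algX (g ≫ f) e₅
  let := algX (g ≫ f ≫ p) e₆
  have := isScalarTower_algX f p C.e₁ C.e₂ C.e₃
  have := isScalarTower_algX g (f ≫ p) C.e₃ e₄ e₆
  have := isScalarTower_algX g f C.e₂ e₄ e₅
  have : IsScalarTower Γ(S, C.W) Γ(X, C.U) Γ(Z, V) := by
    refine IsScalarTower.of_algebraMap_eq fun c => ?_
    rw [IsScalarTower.algebraMap_apply Γ(S, C.W) Γ(Y, C.V) Γ(Z, V),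
      IsScalarTower.algebraMap_apply Γ(S, C.W) Γ(X, C.U) Γ(Y, C.V),
      IsScalarTower.algebraMap_apply Γ(X, C.U) Γ(Y, C.V) Γ(Z, V)]
  exact fitt_comp (k := Γ(S, C.W)) C.bX C.bY b

end K134.JacSheaf
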