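import Groth.Agent.AdjLin.K134.JacCart
import Groth.Agent.Variety.K430.CanDiv

/-!
# The Jacobian ideal sheaf, part 3: local rings and the canonical sheaves

* `stalkIdeal_jac_fitt`: `stalkIdeal (jac f) y = Fitt₀ (Ω_{O_{Y,y}/O_{X,f y}})`;
* `exists_basis_D`: bases of differentials of local rings of the form `d e_i`;
* `exists_iso` (J1): `W' ⊗ idealMod (jac h) ≅ h^* W` for top exterior powers `W'`, `W` of the differentials.
-/

set_option autoImplicit false

universe u

open CategoryTheory CategoryTheory.Limits AlgebraicGeometry TopologicalSpace Opposite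
open scoped TensorProduct

namespace K134.JacStalk

open Groth.Agent Groth.Agent.SDiv.K474 Groth.Agent.CurvesB.OmegaDer Groth.Agent.Ega2.BasSec
open Groth.Agent.Divis.CartierBasic Groth.Agent.Divis.CartierStalk K134.JacAlg K134.JacAlg2
open K134.JacSheaf K134.OrdId K134.JacCart

section Alg

/-- Localizing the zeroth Fitting ideal of the differentials. -/
theorem fitt_local (R A R' B : Type u) [CommRing R] [CommRing A] [CommRing R'] [CommRing B]
    [Algebra R R'] [Algebra R A] [Algebra R B] [Algebra R' B] [Algebra A B] [IsScalarTower R R' B]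
    [IsScalarTower R A B] [Algebra.FormallyUnramified R A] [Algebra.FormallyEtale R' B]
    [Module.Finite R' Ω[R'⁄R]] :
    (Fitt.ideal R' Ω[R'⁄R] 0).map (algebraMap R' B) = Fitt.ideal B Ω[B⁄A] 0 := by
  rw [← K360.FittBasic.ideal_baseChange B 0,
    K360.FittBasic.ideal_congr (KaehlerDifferential.tensorKaehlerEquivOfFormallyEtale R R' B) 0]
  have : Module.Finite B Ω[B⁄R] :=
    Module.Finite.equiv (KaehlerDifferential.tensorKaehlerEquivOfFormallyEtale R R' B)
  have hsub : Subsingleton Ω[A⁄R] := inferInstance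
  have hinj : Function.Injective (KaehlerDifferential.map R A B B) := by
    rw [injective_iff_map_eq_zero]
    intro x hx
    obtain ⟨w, rfl⟩ := (KaehlerDifferential.exact_mapBaseChange_map R A B x).1 hx
    have hw : w = 0 := by
      induction w using TensorProduct.induction_on with
      | zero => rfl
      | tmul b y => rw [Subsingleton.elim y 0, TensorProduct.tmul_zero]
      | add x y hx' hy' =>
        have h0 : ∀ w : B ⊗[A] Ω[A⁄R], w = 0 := fun w => Subsingleton.elim w 0
        exact h0 _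
    rw [hw, map_zero]
  exact K360.FittBasic.ideal_congr (LinearEquiv.ofBijective _
    ⟨hinj, KaehlerDifferential.map_surjective R A B⟩) 0

end Alg

section Stalk

variable {X Y S : Scheme.{u}}

/-- The stalks of the Jacobian ideal are the Fitting ideals of the differentials of the local rings. -/
theorem stalkIdeal_jac_fitt (f : Y ⟶ X) [LocallyOfFiniteType f] [QuasiCompact (pullback.diagonal f)]
    (y : Y) :
    letI := (f.stalkMap y).hom.toAlgebra
    stalkIdeal (jac f) y =
      Fitt.ideal (Y.presheaf.stalk y) Ω[Y.presheaf.stalk y⁄X.presheaf.stalk (f y)] 0 := by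
  let iAB := (f.stalkMap y).hom.toAlgebra
  obtain ⟨U, hU, hyU, -⟩ := exists_isAffineOpen_mem_and_subset (x := f y) (U := ⊤) trivial
  obtain ⟨V, hV, hyV, hVN⟩ := exists_isAffineOpen_mem_and_subset (x := y) (U := f ⁻¹ᵁ U) hyU
  have e : V ≤ f ⁻¹ᵁ U := hVN
  let i1 := algX f e
  let i2 : Algebra Γ(Y, V) (Y.presheaf.stalk y) := Y.presheaf.algebra_section_stalk ⟨y, hyV⟩
  let i3 : Algebra Γ(X, U) (X.presheaf.stalk (f y)) := X.presheaf.algebra_section_stalk ⟨f y, hyU⟩
  have l2 : IsLocalization.AtPrime (Y.presheaf.stalk y) (hV.primeIdealOf ⟨y, hyV⟩).asIdeal :=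
    hV.isLocalization_stalk ⟨y, hyV⟩
  have l3 : IsLocalization.AtPrime (X.presheaf.stalk (f y)) (hU.primeIdealOf ⟨f y, hyU⟩).asIdeal :=
    hU.isLocalization_stalk ⟨f y, hyU⟩
  have e2 : Algebra.FormallyEtale Γ(Y, V) (Y.presheaf.stalk y) :=
    Algebra.FormallyEtale.of_isLocalization (hV.primeIdealOf ⟨y, hyV⟩).asIdeal.primeCompl
  have e3 : Algebra.FormallyEtale Γ(X, U) (X.presheaf.stalk (f y)) :=
    Algebra.FormallyEtale.of_isLocalization (hU.primeIdealOf ⟨f y, hyU⟩).asIdeal.primeCompl
  let i4 : Algebra Γ(X, U) (Y.presheaf.stalk y) :=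
    ((algebraMap Γ(Y, V) (Y.presheaf.stalk y)).comp (algebraMap Γ(X, U) Γ(Y, V))).toAlgebra
  have t1 : IsScalarTower Γ(X, U) Γ(Y, V) (Y.presheaf.stalk y) :=
    IsScalarTower.of_algebraMap_eq fun _ => rfl
  have t2 : IsScalarTower Γ(X, U) (X.presheaf.stalk (f y)) (Y.presheaf.stalk y) := by
    refine IsScalarTower.of_algebraMap_eq fun a => ?_
    change (Y.presheaf.germ V y hyV).hom ((f.appLE U V e).hom a) =
      (f.stalkMap y).hom ((X.presheaf.germ U (f y) hyU).hom a)
    have h1 := Scheme.Hom.germ_stalkMap f U y hyU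
    have h2 : (f.appLE U V e) ≫ Y.presheaf.germ V y hyV =
        X.presheaf.germ U (f y) hyU ≫ f.stalkMap y := by
      rw [h1, Scheme.Hom.appLE, Category.assoc, TopCat.Presheaf.germ_res]
    exact congrArg (fun φ => φ.hom a) h2
  have h1 : Algebra.FiniteType Γ(X, U) Γ(Y, V) :=
    LocallyOfFiniteType.finiteType_appLE f hU hV e
  rw [stalkIdeal_eq (jac f) ⟨V, hV⟩ hyV, jac_ideal f e hU hV]
  exact fitt_local Γ(X, U) (X.presheaf.stalk (f y)) Γ(Y, V) (Y.presheaf.stalk y)

end Stalk

section Basis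

/-- Over a local ring, if the differentials are free of rank `n`, they have a basis of the form `d e_i`. -/
theorem exists_basis_D {k A : Type u} [CommRing k] [CommRing A] [Algebra k A] [IsLocalRing A] {n : ℕ}
    (b : Module.Basis (Fin n) A Ω[A⁄k]) :
    ∃ (e : Fin n → A) (b' : Module.Basis (Fin n) A Ω[A⁄k]), ∀ i, b' i = KaehlerDifferential.D k A (e i) := by
  have : Module.Free A Ω[A⁄k] := Module.Free.of_basis b
  have : Module.Finite A Ω[A⁄k] := Module.Finite.of_basis b
  have : Module.FinitePresentation A Ω[A⁄k] := Module.finitePresentation_of_projective A _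
  obtain ⟨κ, a, c, hc⟩ := Module.exists_basis_of_span_of_flat (R := A) (M := Ω[A⁄k])
    (fun x : A => KaehlerDifferential.D k A x) (KaehlerDifferential.span_range_derivation k A)
  let ε := c.indexEquiv b
  refine ⟨fun i => a (ε.symm i), c.reindex ε, fun i => ?_⟩
  rw [Module.Basis.reindex_apply, hc]

end Basis

section Canon

open Groth.Agent.CycB.StalkExact Groth.Agent.Fdesc.PullbackStalk OmegaSh K583.DerFunct K583.StalkDer
open K583.AlgUniv K430.CanDiv K430.DiffStalk

variable {X Y S : Scheme.{u}}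

/-- the relative canonical divisor of `K430.CanDiv.exists_can_div` is the Jacobian ideal -/
theorem exists_iso (n : ℕ) (h : Y ⟶ X) (p : X ⟶ S) [QuasiSeparated p] [QuasiSeparated (h ≫ p)]
    [SmoothOfRelativeDimension n p] [SmoothOfRelativeDimension n (h ≫ p)] [IsIntegral Y]
    (hη : Function.Surjective (h.stalkMap (genericPoint Y)))
    {W : X.Modules} {W' : Y.Modules} (hW : ExtPow.IsExtPow n (Omega.sheaf p) W)
    (hW' : ExtPow.IsExtPow n (Omega.sheaf (h ≫ p)) W') :
    Nonempty (CohB1.tensorMod W' (ClSub.idealMod (jac h)) ≅ (Scheme.Modules.pullback h).obj W) := by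
  have i1 := locallyOfFiniteType_of_comp' n h p
  have i2 := quasiCompact_diagonal_of_comp h p
  obtain ⟨K, -, hiso, -, hdet⟩ := exists_can_div p h n hη hW hW'
  suffices hK : K = jac h by rw [← hK]; exact hiso
  refine ext_stalkIdeal fun x => ?_
  have r1 := Dual.H339.OmegaRank.isFinLocFreeOfRank_omega n p
  have r2 := Dual.H339.OmegaRank.isFinLocFreeOfRank_omega n (h ≫ p)
  have u1 := K136.UnivOmega.isUniversal_dOmega p
  have u2 := K136.UnivOmega.isUniversal_dOmega (h ≫ p)
  let iAB := (h.stalkMap x).hom.toAlgebra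
  let ikA : Algebra (S.presheaf.stalk ((h ≫ p) x)) (X.presheaf.stalk (h x)) :=
    (p.stalkMap (h x)).hom.toAlgebra
  let ikB := ((h ≫ p).stalkMap x).hom.toAlgebra
  have t : IsScalarTower (S.presheaf.stalk ((h ≫ p) x)) (X.presheaf.stalk (h x)) (Y.presheaf.stalk x) := by
    refine IsScalarTower.of_algebraMap_eq fun a => ?_
    change ((h ≫ p).stalkMap x).hom a = (h.stalkMap x).hom ((p.stalkMap (h x)).hom a)
    rw [Scheme.Hom.stalkMap_comp]
    rfl
  have hA : IsAlgUniv (algebraMap (S.presheaf.stalk ((h ≫ p) x)) (X.presheaf.stalk (h x)))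
      (stalkDer (dOmega p) (h x)) := isAlgUniv_stalkDer u1 (h x)
  have hB : IsAlgUniv (algebraMap (S.presheaf.stalk ((h ≫ p) x)) (Y.presheaf.stalk x))
      (stalkDer (dOmega (h ≫ p)) x) := isAlgUniv_stalkDer u2 x
  obtain ⟨eA, heA⟩ := hA.exists_kaehler_equiv
  obtain ⟨eB, heB⟩ := hB.exists_kaehler_equiv
  obtain ⟨b₁⟩ := Krr.H478.EpiIso.exists_basis r1 (h x)
  obtain ⟨b₂⟩ := Krr.H478.EpiIso.exists_basis r2 x
  obtain ⟨e, bA, hbA⟩ := exists_basis_D (b₁.map eA.symm)
  obtain ⟨w, bB, hbB⟩ := exists_basis_D (b₂.map eB.symm)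
  have s1 : Submodule.span (X.presheaf.stalk (h x))
      (Set.range fun i => stalkDer (dOmega p) (h x) (e i)) = ⊤ := by
    have h1 : (fun i => stalkDer (dOmega p) (h x) (e i)) = eA ∘ bA := by
      funext i
      rw [Function.comp_apply, hbA, heA]
    rw [h1, Set.range_comp, ← LinearEquiv.coe_coe, ← Submodule.map_span, bA.span_eq, Submodule.map_top,
      LinearMap.range_eq_top]
    exact eA.surjective
  have s2 : Submodule.span (Y.presheaf.stalk x)
      (Set.range fun i => stalkDer (dOmega (h ≫ p)) x (w i)) = ⊤ := by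
    have h1 : (fun i => stalkDer (dOmega (h ≫ p)) x (w i)) = eB ∘ bB := by
      funext i
      rw [Function.comp_apply, hbB, heB]
    rw [h1, Set.range_comp, ← LinearEquiv.coe_coe, ← Submodule.map_span, bB.span_eq, Submodule.map_top,
      LinearMap.range_eq_top]
    exact eB.surjective
  rw [hdet x (Fin n) (Fintype.card_fin n) e w s1 s2 (mat bA bB) (fun i => ?_), stalkIdeal_jac_fitt h x,
    fitt_omega bA bB]
  have h2 : KaehlerDifferential.D (S.presheaf.stalk ((h ≫ p) x)) (Y.presheaf.stalk x)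
      ((h.stalkMap x).hom (e i)) = ∑ j, mat bA bB i j • bB j := by
    have h3 : KaehlerDifferential.map (S.presheaf.stalk ((h ≫ p) x)) (S.presheaf.stalk ((h ≫ p) x))
        (X.presheaf.stalk (h x)) (Y.presheaf.stalk x) (bA i) =
        KaehlerDifferential.D (S.presheaf.stalk ((h ≫ p) x)) (Y.presheaf.stalk x)
          ((h.stalkMap x).hom (e i)) := by
      rw [hbA, KaehlerDifferential.map_D]
      rfl
    rw [← h3]
    exact (bB.sum_repr _).symm
  have h4 := heB ((h.stalkMap x).hom (e i))
  refine h4.symm.trans ?_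
  rw [h2, map_sum]
  refine Finset.sum_congr rfl fun j _ => ?_
  rw [map_smul, hbB, heB]

end Canon

end K134.JacStalk
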