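import Groth.Agent.AdjLin.K134.JacExc
import Groth.Agent.AdjLin.K633.Plan
import Groth.Agent.CycA.ProdDim
import Groth.Agent.Picfga.CurveRelDim
import Groth.Agent.Resolve.K588.HProj
import Groth.Agent.Vanish.K911.Ncd
import Groth.Agent.Divis.EffIntegral

/-!
# Models: basic facts on orders at the generic points of the members

* `idOrd`: `I = m ^ idOrd I`, `idOrd I = OrdId.ord I` for nonzero ideals of a discrete valuation ring;
* `isProper_mu`, `dim_Y`, `relDim`, `isEff_E`, `isEff_J`;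
* `isDVR_gp`, `stalkIdeal_E_gp`, `stalkIdeal_eq_pow`, `coe_ord`.
-/

set_option autoImplicit false
universe u

open CategoryTheory CategoryTheory.Limits AlgebraicGeometry TopologicalSpace IsDiscreteValuationRing

namespace K134.PBase

open K633.Fuj Groth.Agent K134.OrdId K134.JacSheaf K134.JacCart K134.JacRat K134.JacExc
open Groth.Agent.Divis.CartierBasic Groth.Agent.Divis.CartierStalk

section DVR

variable {R : Type u} [CommRing R] [IsDomain R] [IsDiscreteValuationRing R]

theorem ord_maximalIdeal_pow (n : ℕ) : OrdId.ord (IsLocalRing.maximalIdeal R ^ n) = n := by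
  obtain ⟨s, hs⟩ := IsDiscreteValuationRing.exists_irreducible R
  rw [(IsDiscreteValuationRing.irreducible_iff_uniformizer s).1 hs, Ideal.span_singleton_pow, ord_span]
  have := addVal_def' (1 : Rˣ) hs n
  rwa [Units.val_one, one_mul] at this

theorem exists_eq_pow {I : Ideal R} (hI : I ≠ ⊥) : ∃ n : ℕ, I = IsLocalRing.maximalIdeal R ^ n := by
  have h : IsDiscreteValuationRing R ↔ ∀ I : Ideal R, I ≠ ⊥ → ∃ n : ℕ, I = IsLocalRing.maximalIdeal R ^ n :=
    (IsDiscreteValuationRing.TFAE R (IsDiscreteValuationRing.not_isField R)).out 0 6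
  exact h.1 inferInstance I hI

theorem pow_le_pow_iff (m n : ℕ) :
    IsLocalRing.maximalIdeal R ^ m ≤ IsLocalRing.maximalIdeal R ^ n ↔ n ≤ m := by
  rw [← ord_le_iff, ord_maximalIdeal_pow, ord_maximalIdeal_pow, Nat.cast_le]

theorem idOrd_pow (n : ℕ) : idOrd (IsLocalRing.maximalIdeal R ^ n) = n := by
  unfold idOrd
  have : {m : ℕ | IsLocalRing.maximalIdeal R ^ n ≤ IsLocalRing.maximalIdeal R ^ m} = Set.Iic n := by
    ext m
    exact pow_le_pow_iff n m
  rw [this]
  exact csSup_Iic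

theorem eq_pow_idOrd {I : Ideal R} (hI : I ≠ ⊥) : I = IsLocalRing.maximalIdeal R ^ idOrd I := by
  obtain ⟨n, rfl⟩ := exists_eq_pow hI
  rw [idOrd_pow]

theorem coe_idOrd {I : Ideal R} (hI : I ≠ ⊥) : (idOrd I : ℕ∞) = OrdId.ord I := by
  obtain ⟨n, rfl⟩ := exists_eq_pow hI
  rw [idOrd_pow, ord_maximalIdeal_pow]

end DVR

section Model

variable {k : Type u} [Field k] {X : Scheme.{u}} {p : X ⟶ Spec (CommRingCat.of k)} (M : Model p)

theorem isProper_comp : IsProper (M.μ ≫ p) := K588.HProj.isProper M.proj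

theorem isProper_mu [IsSeparated p] : IsProper M.μ := by
  have := isProper_comp M
  exact IsProper.of_comp M.μ p

theorem isLocallyNoetherian_Y : IsLocallyNoetherian M.Y := by
  have := isProper_comp M
  exact LocallyOfFiniteType.isLocallyNoetherian (M.μ ≫ p)

theorem isEff_E (i : Fin M.r) : BlowUp.IsEffCartierIdeal (M.E i) :=
  K911.Ncd.isEff_of_isNCD M.snc i

theorem mem_support_gp (i : Fin M.r) : M.gp i ∈ (M.E i).support := subschemeι_mem_support _ _

theorem stalkIdeal_genericPoint {Y : Scheme.{u}} (E : Y.IdealSheafData) [IsIntegral E.subscheme] :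
    stalkIdeal E (E.subschemeι (genericPoint E.subscheme)) =
      IsLocalRing.maximalIdeal (Y.presheaf.stalk (E.subschemeι (genericPoint E.subscheme))) := by
  have h1 := ker_stalkMap_subschemeι E (genericPoint E.subscheme)
  rw [← h1]
  have hf : IsField (E.subscheme.presheaf.stalk (genericPoint E.subscheme)) :=
    Field.toIsField E.subscheme.functionField
  ext a
  rw [RingHom.mem_ker, IsLocalRing.mem_maximalIdeal, mem_nonunits_iff,
    ← isUnit_map_iff (E.subschemeι.stalkMap (genericPoint E.subscheme)).hom a]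
  constructor
  · intro h
    rw [h]
    exact not_isUnit_zero
  · intro h
    by_contra h0
    obtain ⟨b, hb⟩ := hf.mul_inv_cancel h0
    exact h (IsUnit.of_mul_eq_one b hb)

theorem stalkIdeal_E_gp (i : Fin M.r) :
    stalkIdeal (M.E i) (M.gp i) = IsLocalRing.maximalIdeal (M.Y.presheaf.stalk (M.gp i)) :=
  stalkIdeal_genericPoint (M.E i)

theorem isDVR_gp (i : Fin M.r) : IsDiscreteValuationRing (M.Y.presheaf.stalk (M.gp i)) := by
  have := isLocallyNoetherian_Y M
  obtain ⟨g, hg, h⟩ := exists_stalkIdeal_eq_span (isEff_E M i) (M.gp i)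
  rw [stalkIdeal_E_gp] at h
  have hnf : ¬ IsField (M.Y.presheaf.stalk (M.gp i)) := by
    intro hf
    rw [IsLocalRing.isField_iff_maximalIdeal_eq, h, Ideal.span_singleton_eq_bot] at hf
    exact nonZeroDivisors.ne_zero hg hf
  have h5 : IsDiscreteValuationRing (M.Y.presheaf.stalk (M.gp i)) ↔
      (IsLocalRing.maximalIdeal (M.Y.presheaf.stalk (M.gp i))).IsPrincipal :=
    (IsDiscreteValuationRing.TFAE (M.Y.presheaf.stalk (M.gp i)) hnf).out 0 4
  exact h5.2 ⟨g, h⟩

/-- the stalk of an ideal at a generic point is a power of the maximal ideal -/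
theorem stalkIdeal_eq_pow (I : M.Y.IdealSheafData) (i : Fin M.r) (hI : stalkIdeal I (M.gp i) ≠ ⊥) :
    stalkIdeal I (M.gp i) = IsLocalRing.maximalIdeal (M.Y.presheaf.stalk (M.gp i)) ^ (K633.Fuj.ord I (M.gp i)) := by
  have := isDVR_gp M i
  exact eq_pow_idOrd hI

/-- comparison with `OrdId.ordI` -/
theorem coe_ord (I : M.Y.IdealSheafData) (i : Fin M.r) (hI : stalkIdeal I (M.gp i) ≠ ⊥) :
    haveI := isDVR_gp M i
    (K633.Fuj.ord I (M.gp i) : ℕ∞) = ordI I (M.gp i) := by
  have := isDVR_gp M i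
  exact coe_idOrd hI

theorem stalkIdeal_ne_bot {I : M.Y.IdealSheafData} (hI : BlowUp.IsEffCartierIdeal I) (y : M.Y) :
    stalkIdeal I y ≠ ⊥ := by
  obtain ⟨g, hg, h⟩ := exists_stalkIdeal_eq_span hI y
  rw [h, Ne, Ideal.span_singleton_eq_bot]
  exact nonZeroDivisors.ne_zero hg

section Int

variable [IsIntegral X]

theorem dim_Y [LocallyOfFiniteType p] : topologicalKrullDim M.Y = topologicalKrullDim X := by
  have := isProper_comp M
  obtain ⟨V, hV, hiso⟩ := M.bir
  obtain ⟨x, hx⟩ := K588.Bir.exists_of_isIso_restrict M.μ hiso hV.some_mem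
  have hne : Nonempty V := ⟨⟨_, hV.some_mem⟩⟩
  have hne' : Nonempty (M.μ ⁻¹ᵁ V) := ⟨⟨x, by change M.μ x ∈ V; rw [hx]; exact hV.some_mem⟩⟩
  rw [← CycA.ProdDim.dim_of_isOpenImmersion p V.ι,
    ← CycA.ProdDim.dim_of_isOpenImmersion (M.μ ≫ p) (M.μ ⁻¹ᵁ V).ι]
  exact IsHomeomorph.topologicalKrullDim_eq _ (Scheme.homeoOfIso (asIso (M.μ ∣_ V))).isHomeomorph

theorem relDim [LocallyOfFiniteType p] (n : ℕ) (hn : topologicalKrullDim X = n) :
    SmoothOfRelativeDimension n (M.μ ≫ p) := by
  have := isProper_comp M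
  have := M.smooth
  exact Picfga.CurveRelDim.smoothOfRelativeDimension_of_topologicalKrullDim_eq k M.Y (M.μ ≫ p) n
    ((dim_Y M).trans hn)

end Int

end Model

end K134.PBase
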