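import Groth.Agent.AdjLin.K134.PBase
import Groth.Agent.Dix.InterSurf
import Groth.Agent.CurvesC.RegNormal
import Groth.Agent.Lefpen.H705.ClosedPoint

/-!
# The nodes NJac, (T2), (T5), NVal of `K633.Plan`
-/

set_option autoImplicit false
universe u

open CategoryTheory CategoryTheory.Limits AlgebraicGeometry TopologicalSpace IsDiscreteValuationRing

namespace K134.PJac

open K633.Fuj Groth.Agent K134.OrdId K134.JacSheaf K134.JacCart K134.JacRat K134.JacExc K134.PBase
open Groth.Agent.Divis.CartierBasic Groth.Agent.Divis.CartierStalk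

section

variable {k : Type u} [Field k] {X : Scheme.{u}} {p : X ⟶ Spec (CommRingCat.of k)} {n : ℕ} {L : X.Modules}

theorem genericPoint_notMem {Y : Scheme.{u}} [IsIntegral Y] {I : Y.IdealSheafData}
    (hI : BlowUp.IsEffCartierIdeal I) : genericPoint Y ∉ I.support := by
  rw [notMem_support_iff_stalkIdeal_eq_top]
  have hf : IsField (Y.presheaf.stalk (genericPoint Y)) := Field.toIsField Y.functionField
  obtain ⟨g, hg, h⟩ := exists_stalkIdeal_eq_span hI (genericPoint Y)
  rw [h, Ideal.span_singleton_eq_top]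
  obtain ⟨b, hb⟩ := hf.mul_inv_cancel (nonZeroDivisors.ne_zero hg)
  exact IsUnit.of_mul_eq_one b hb

/-- the standing instances -/
theorem inst (C : Ctx p n L) : IsIntegral X ∧ SmoothOfRelativeDimension n p ∧ Smooth p ∧ IsProper p ∧
    IsLocallyNoetherian X := by
  have h1 := C.int
  have h2 := C.smooth
  have h3 : Smooth p := SmoothOfRelativeDimension.smooth n p
  have h4 : IsProper p := K588.HProj.isProper C.proj
  exact ⟨h1, h2, h3, h4, LocallyOfFiniteType.isLocallyNoetherian p⟩

theorem isIntegrallyClosed (C : Ctx p n L) (x : X) [IsIntegral X] :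
    IsIntegrallyClosed (X.presheaf.stalk x) := by
  obtain ⟨h1, h2, h3, h4, h5⟩ := inst C
  have h6 : IsRegularLocalRing (X.presheaf.stalk x) := Lefpen.H705.ClosedPoint.isRegularLocalRing_stalk p x
  exact CurvesC.RegNormal.isIntegrallyClosed (X.presheaf.stalk x)

theorem isEff_J (C : Ctx p n L) (M : Model p) : BlowUp.IsEffCartierIdeal M.J := by
  obtain ⟨h1, h2, h3, h4, h5⟩ := inst C
  have h6 := relDim M n C.dim
  have h7 := isProper_comp M
  exact isEff_jac_of_isBir n M.μ p M.bir

theorem nu_genericPoint (C : Ctx p n L) {N M : Model p} (h : N.Over M) :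
    h.ν (genericPoint N.Y) = genericPoint M.Y := by
  obtain ⟨h1, h2, h3, h4, h5⟩ := inst C
  have e1 := K588.Bir.map_genericPoint N.bir
  have e2 := K588.Bir.map_genericPoint M.bir
  obtain ⟨V, hne, hV⟩ := M.bir
  refine K588.Bir.inj_of_isIso_restrict M.μ hV ?_ ?_
  · rw [← Scheme.Hom.comp_apply, h.w, e1]
    exact K588.Bir.genericPoint_mem hne
  · rw [← Scheme.Hom.comp_apply, h.w, e1, e2]

theorem isEff_comap (C : Ctx p n L) {N M : Model p} (h : N.Over M) {I : M.Y.IdealSheafData}
    (hI : BlowUp.IsEffCartierIdeal I) : BlowUp.IsEffCartierIdeal (I.comap h.ν) :=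
  Dix.InterSurf.isEff_comap_of_generic h.ν hI (by
    rw [nu_genericPoint C h]
    exact genericPoint_notMem hI)

/-- (J2) -/
theorem jac_over (C : Ctx p n L) {N M : Model p} (h : N.Over M) :
    N.J = jac h.ν * M.J.comap h.ν := by
  obtain ⟨h1, h2, h3, h4, h5⟩ := inst C
  have e1 := relDim M n C.dim
  have e2 := relDim N n C.dim
  have e3 := isProper_comp M
  have e4 := isProper_comp N
  have e5 : SmoothOfRelativeDimension n (h.ν ≫ M.μ ≫ p) := by
    rw [← Category.assoc, h.w]; exact e2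
  have e6 : QuasiSeparated (h.ν ≫ M.μ ≫ p) := by
    rw [← Category.assoc, h.w]; infer_instance
  have := jac_comp n h.ν M.μ p
  rw [h.w] at this
  rw [mul_comm]
  exact this

theorem jacNu_ne_bot (C : Ctx p n L) {N M : Model p} (h : N.Over M) (y : N.Y) :
    stalkIdeal (jac h.ν) y ≠ ⊥ := by
  intro h0
  have h1 := stalkIdeal_ne_bot N (isEff_J C N) y
  rw [jac_over C h, stalkIdeal_mul, h0, Ideal.bot_mul] at h1
  exact h1 rfl

/-- (J4) -/
theorem sum_e_le (C : Ctx p n L) {N M : Model p} (h : N.Over M) (j : Fin N.r) :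
    ∑ i, h.e j i ≤ 1 + K633.Fuj.ord (jac h.ν) (N.gp j) := by
  obtain ⟨h1, h2, h3, h4, h5⟩ := inst C
  have e1 := relDim M n C.dim
  have e2 := relDim N n C.dim
  have e3 := isProper_comp M
  have e4 := isProper_comp N
  have e5 : SmoothOfRelativeDimension n (h.ν ≫ M.μ ≫ p) := by
    rw [← Category.assoc, h.w]; exact e2
  have e6 : QuasiSeparated (h.ν ≫ M.μ ≫ p) := by
    rw [← Category.assoc, h.w]; infer_instance
  have e7 := isDVR_gp N j
  have key := sum_ordI_le n h.ν (M.μ ≫ p) M.E M.snc (N.gp j)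
  have e8 : ∀ i, ordI ((M.E i).comap h.ν) (N.gp j) = (h.e j i : ℕ∞) := fun i =>
    (coe_ord N _ j (stalkIdeal_ne_bot N (isEff_comap C h (isEff_E M i)) _)).symm
  rw [Finset.sum_congr rfl fun i _ => e8 i, ← Nat.cast_sum,
    ← coe_ord N _ j (jacNu_ne_bot C h _)] at key
  exact_mod_cast key

theorem nJac [IsAlgClosed k] [CharZero k] (C : Ctx p n L) : NJac p n := by
  obtain ⟨h1, h2, h3, h4, h5⟩ := inst C
  refine ⟨fun M ω ω' hω hω' => ?_, fun N M h => jac_over C h, fun M U f hf y hy => ?_,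
    fun N M h j => sum_e_le C h j⟩
  · have e1 := relDim M n C.dim
    have e3 := isProper_comp M
    have e4 := isIso_stalkMap_generic M.bir
    exact JacStalk.exists_iso n M.μ p ((ConcreteCategory.isIso_iff_bijective _).1 e4).2 hω hω'
  · have e1 := isProper_mu M
    have e2 : Nonempty (M.μ ⁻¹ᵁ U) := ⟨⟨y, hy⟩⟩
    obtain ⟨s, hs⟩ := exists_section_of_mul_jac (fun x => isIntegrallyClosed C x) M.μ M.bir U f
      (fun y hy a ha => by
        obtain ⟨b, -, hb⟩ := hf y hy a ha
        exact ⟨b, hb⟩)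
    refine ⟨(X.presheaf.germ U (M.μ y) hy).hom s, ?_⟩
    rw [← hs]
    have e3 : (M.μ.stalkMap y).hom ((X.presheaf.germ U (M.μ y) hy).hom s) =
        (M.Y.presheaf.germ (M.μ ⁻¹ᵁ U) y hy).hom ((M.μ.app U).hom s) :=
      Scheme.Hom.germ_stalkMap_apply M.μ U y hy s
    rw [e3]
    exact (Scheme.algebraMap_germ_eq_germToFunctionField M.Y hy _).symm

end

end K134.PJac
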