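import Groth.Agent.AdjLin.K134.PJac
import Groth.Agent.AdjLin.K699.NcPts

/-!
# The node NTower of `K633.Plan`: clauses (T1)-(T4)
-/

set_option autoImplicit false
universe u

open CategoryTheory CategoryTheory.Limits AlgebraicGeometry TopologicalSpace IsDiscreteValuationRing

namespace K134.PTower

open K633.Fuj Groth.Agent K134.OrdId K134.JacSheaf K134.JacCart K134.JacRat K134.JacExc K134.PBase K134.PJac
open Groth.Agent.Divis.CartierBasic Groth.Agent.Divis.CartierStalk

section Ring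

/-- bijective ring homomorphisms preserve the order -/
theorem idOrd_map_of_bijective {R S : Type u} [CommRing R] [IsLocalRing R] [CommRing S] [IsLocalRing S]
    (φ : R →+* S) (hφ : Function.Bijective φ) (I : Ideal R) : idOrd (I.map φ) = idOrd I := by
  have h1 : (IsLocalRing.maximalIdeal R).map φ = IsLocalRing.maximalIdeal S := by
    have h2 : ((IsLocalRing.maximalIdeal R).map φ).IsMaximal := by
      let e : R ≃+* S := RingEquiv.ofBijective φ hφ
      exact Ideal.map_isMaximal_of_equiv e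
    exact IsLocalRing.eq_maximalIdeal h2
  have h3 : ∀ J : Ideal R, (J.map φ).comap φ = J := fun J =>
    Ideal.comap_map_of_bijective φ hφ
  unfold idOrd
  congr 1
  ext m
  simp only [Set.mem_ofPred_eq]
  rw [← h1, ← Ideal.map_pow]
  constructor
  · intro h
    have := Ideal.comap_mono (f := φ) h
    rwa [h3, h3] at this
  · exact fun h => Ideal.map_mono h

theorem prod_pow_pow {R : Type u} [CommRing R] {r : ℕ} (m : Ideal R) (a e : Fin r → ℕ) :
    ∏ i, (m ^ e i) ^ a i = m ^ (∑ i, a i * e i) := by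
  rw [← Finset.prod_pow_eq_pow_sum]
  exact Finset.prod_congr rfl fun i _ => by rw [← pow_mul, mul_comm]

end Ring

section Sheaf

theorem ord_comap_of_bijective {Y Z : Scheme.{u}} (f : Y ⟶ Z) (I : Z.IdealSheafData) (y : Y) (z : Z)
    (hz : f y = z) (hb : Function.Bijective (f.stalkMap y).hom) :
    K633.Fuj.ord (I.comap f) y = K633.Fuj.ord I z := by
  subst hz
  unfold K633.Fuj.ord
  rw [stalkIdeal_comap]
  exact idOrd_map_of_bijective _ hb _

end Sheaf

variable {k : Type u} [Field k] {X : Scheme.{u}} {p : X ⟶ Spec (CommRingCat.of k)} {n : ℕ} {L : X.Modules}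

section Over

variable {N M : Model p} (h : N.Over M)

theorem stalkIdeal_E_comap (C : Ctx p n L) (j : Fin N.r) (i : Fin M.r) :
    stalkIdeal ((M.E i).comap h.ν) (N.gp j) =
      IsLocalRing.maximalIdeal (N.Y.presheaf.stalk (N.gp j)) ^ (h.e j i) :=
  stalkIdeal_eq_pow N _ j (stalkIdeal_ne_bot N (isEff_comap C h (isEff_E M i)) _)

theorem stalkIdeal_mon_comap (C : Ctx p n L) (a : Fin M.r → ℕ) (j : Fin N.r) :
    stalkIdeal ((M.mon a).comap h.ν) (N.gp j) =
      IsLocalRing.maximalIdeal (N.Y.presheaf.stalk (N.gp j)) ^ (∑ i, a i * h.e j i) := by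
  rw [stalkIdeal_comap, Model.mon, K699.NcPts.stalkIdeal_prod, ← prod_pow_pow]
  have h1 := map_prod (Ideal.mapHom (h.ν.stalkMap (N.gp j)).hom) (fun i => stalkIdeal (M.E i ^ a i) (h.ν (N.gp j)))
    Finset.univ
  refine h1.trans (Finset.prod_congr rfl fun i _ => ?_)
  change Ideal.map _ _ = _
  rw [stalkIdeal_pow, Ideal.map_pow, ← stalkIdeal_comap, stalkIdeal_E_comap h C]

theorem comap_mu (I : X.IdealSheafData) : I.comap N.μ = (I.comap M.μ).comap h.ν := by
  rw [← h.w, Scheme.IdealSheafData.comap_comp]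

/-- (T1) -/
theorem o_eq_sum (C : Ctx p n L) {I : X.IdealSheafData} (hI : M.IsMon I) (j : Fin N.r) :
    N.o I j = ∑ i, M.o I i * h.e j i := by
  have := isDVR_gp N j
  have h1 : stalkIdeal (I.comap N.μ) (N.gp j) =
      IsLocalRing.maximalIdeal (N.Y.presheaf.stalk (N.gp j)) ^ (∑ i, M.o I i * h.e j i) := by
    have hI' : I.comap M.μ = M.mon (M.o I) := hI
    rw [comap_mu h I, hI', stalkIdeal_mon_comap h C]
  have h2 := congrArg idOrd h1
  rwa [PBase.idOrd_pow] at h2

theorem J_le_mon (C : Ctx p n L) (M : Model p) : M.J ≤ M.mon (fun i => M.A i - 1) := by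
  rw [le_iff_stalkIdeal]
  intro y
  refine K699.NcPts.stalkIdeal_le_prod (isEff_E M) M.inj M.J y _ fun i _ => ?_
  have h1 := stalkIdeal_eq_pow M M.J i (stalkIdeal_ne_bot M (isEff_J C M) _)
  refine (le_of_eq h1).trans (le_of_eq ?_)
  congr 1
  rw [Model.A, add_tsub_cancel_left]

/-- (T2) -/
theorem sum_A_le (C : Ctx p n L) (j : Fin N.r) : ∑ i, M.A i * h.e j i ≤ N.A j := by
  have := isDVR_gp N j
  have h1 := sum_e_le C h j
  have h2 : ∑ i, (M.A i - 1) * h.e j i ≤ K633.Fuj.ord (M.J.comap h.ν) (N.gp j) := by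
    rw [← pow_le_pow_iff (R := N.Y.presheaf.stalk (N.gp j)), ← stalkIdeal_mon_comap h C,
      ← stalkIdeal_eq_pow N _ j (stalkIdeal_ne_bot N (isEff_comap C h (isEff_J C M)) _)]
    exact stalkIdeal_mono (Scheme.IdealSheafData.comap_mono h.ν (J_le_mon C M)) _
  have h3 : K633.Fuj.ord N.J (N.gp j) = K633.Fuj.ord (jac h.ν) (N.gp j) +
      K633.Fuj.ord (M.J.comap h.ν) (N.gp j) := by
    conv_lhs => rw [jac_over C h]
    have h4 := stalkIdeal_eq_pow N _ j (jacNu_ne_bot C h (N.gp j))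
    have h5 := stalkIdeal_eq_pow N _ j (stalkIdeal_ne_bot N (isEff_comap C h (isEff_J C M)) (N.gp j))
    have h6 : stalkIdeal (jac h.ν * M.J.comap h.ν) (N.gp j) =
        IsLocalRing.maximalIdeal (N.Y.presheaf.stalk (N.gp j)) ^
          (K633.Fuj.ord (jac h.ν) (N.gp j) + K633.Fuj.ord (M.J.comap h.ν) (N.gp j)) := by
      rw [stalkIdeal_mul, pow_add, ← h4, ← h5]
    have h7 := congrArg idOrd h6
    rw [PBase.idOrd_pow] at h7
    exact h7
  have h4 : ∀ i, M.A i * h.e j i = h.e j i + (M.A i - 1) * h.e j i := fun i => by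
    have : M.A i = (M.A i - 1) + 1 := by rw [Model.A]; omega
    conv_lhs => rw [this]
    ring
  rw [Finset.sum_congr rfl fun i _ => h4 i, Finset.sum_add_distrib, Model.A, h3]
  omega

theorem isBir_nu (C : Ctx p n L) : K84.Iface.IsBir h.ν := by
  obtain ⟨h1, h2, h3, h4, h5⟩ := inst C
  obtain ⟨V, hV, hiV⟩ := M.bir
  obtain ⟨W, hW, hiW⟩ := N.bir
  have hV' : IsIso (M.μ ∣_ (V ⊓ W)) := K588.Bir.isIso_restrict_le M.μ inf_le_left hiV
  have hW' : IsIso (N.μ ∣_ (V ⊓ W)) := K588.Bir.isIso_restrict_le N.μ inf_le_right hiW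
  have hg : genericPoint X ∈ V ⊓ W := ⟨K588.Bir.genericPoint_mem hV, K588.Bir.genericPoint_mem hW⟩
  refine ⟨M.μ ⁻¹ᵁ (V ⊓ W), ⟨genericPoint M.Y, ?_⟩, ?_⟩
  · change M.μ (genericPoint M.Y) ∈ V ⊓ W
    rw [K588.Bir.map_genericPoint M.bir]
    exact hg
  · have h6 : IsIso ((h.ν ≫ M.μ) ∣_ (V ⊓ W)) := by
      have h7 : ∀ f : N.Y ⟶ X, f = N.μ → IsIso (f ∣_ (V ⊓ W)) := by
        rintro f rfl
        exact hW'
      exact h7 _ h.w
    rw [morphismRestrict_comp] at h6
    exact @IsIso.of_isIso_comp_right _ _ _ _ _ (h.ν ∣_ M.μ ⁻¹ᵁ (V ⊓ W)) (M.μ ∣_ (V ⊓ W)) hV' h6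

theorem isProper_nu (C : Ctx p n L) : IsProper h.ν := by
  obtain ⟨h1, h2, h3, h4, h5⟩ := inst C
  have e1 := isProper_mu M
  have e2 : IsProper (h.ν ≫ M.μ) := by
    rw [h.w]
    exact isProper_mu N
  exact IsProper.of_comp h.ν M.μ

theorem isIntegrallyClosed_Y (M : Model p) (y : M.Y) : IsIntegrallyClosed (M.Y.presheaf.stalk y) := by
  have h1 := isProper_comp M
  have h2 := M.smooth
  have h6 : IsRegularLocalRing (M.Y.presheaf.stalk y) :=
    Lefpen.H705.ClosedPoint.isRegularLocalRing_stalk (M.μ ≫ p) y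
  exact CurvesC.RegNormal.isIntegrallyClosed (M.Y.presheaf.stalk y)

/-- a member of `N` whose generic point lies over that of a member of `M` : `ν` is an isomorphism there -/
theorem bijective_nu (C : Ctx p n L) {j : Fin N.r} {i : Fin M.r} (hji : h.ν (N.gp j) = M.gp i) :
    N.gp j ∉ (jac h.ν).support ∧ Function.Bijective (h.ν.stalkMap (N.gp j)).hom := by
  have e1 := isProper_nu h C
  have e2 := isLocallyNoetherian_Y M
  have e3 := isDVR_gp M i
  obtain ⟨V, hV, hVJ, hcod⟩ := exists_iso_locus (isIntegrallyClosed_Y M) h.ν (isBir_nu h C)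
  have hd : ringKrullDim (M.Y.presheaf.stalk (M.gp i)) ≤ 1 := by
    have := IsPrincipalIdealRing.krullDimLE_one (M.Y.presheaf.stalk (M.gp i))
    simpa using (Ring.krullDimLE_iff (n := 1)).1 this
  have hmem : M.gp i ∈ V := by
    by_contra hV'
    exact absurd ((hcod _ hV').trans hd) (by decide)
  have hmem' : h.ν (N.gp j) ∈ V := by rw [hji]; exact hmem
  exact ⟨(hVJ _).1 hmem', (ConcreteCategory.isIso_iff_bijective _).1
    (K588.Bir.isIso_stalkMap_of_mem h.ν hV hmem')⟩

/-- (T3) -/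
theorem strict (C : Ctx p n L) {j : Fin N.r} {i : Fin M.r} (hji : h.ν (N.gp j) = M.gp i) :
    N.A j = M.A i ∧ ∀ I : X.IdealSheafData, N.o I j = M.o I i := by
  obtain ⟨h1, h2⟩ := bijective_nu h C hji
  refine ⟨?_, fun I => ?_⟩
  · have h3 : stalkIdeal N.J (N.gp j) = stalkIdeal (M.J.comap h.ν) (N.gp j) := by
      rw [jac_over C h, stalkIdeal_mul, (notMem_support_iff_stalkIdeal_eq_top _ _).1 h1, Ideal.top_mul]
    have h4 : K633.Fuj.ord N.J (N.gp j) = K633.Fuj.ord (M.J.comap h.ν) (N.gp j) := congrArg idOrd h3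
    rw [Model.A, Model.A, h4, ord_comap_of_bijective h.ν M.J _ _ hji h2]
  · rw [Model.o, Model.o, comap_mu h I]
    exact ord_comap_of_bijective h.ν (I.comap M.μ) _ _ hji h2

/-- (T4) -/
theorem specializes_of_e_ne_zero {j : Fin N.r} {i : Fin M.r} (he : h.e j i ≠ 0) : M.c i ⤳ N.c j := by
  have h1 : h.ν (N.gp j) ∈ (M.E i).support := by
    by_contra h0
    apply he
    have h2 : stalkIdeal ((M.E i).comap h.ν) (N.gp j) = ⊤ := by
      rw [stalkIdeal_comap, (notMem_support_iff_stalkIdeal_eq_top _ _).1 h0, Ideal.map_top]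
    have h3 := isDVR_gp N j
    have h4 := congrArg idOrd h2
    have h5 : idOrd (⊤ : Ideal (N.Y.presheaf.stalk (N.gp j))) = 0 := by
      have := PBase.idOrd_pow (R := N.Y.presheaf.stalk (N.gp j)) 0
      rwa [pow_zero, Ideal.one_eq_top] at this
    exact h4.trans h5
  have h2 := (K699.NcPts.gpt_specializes (M.E i) h1).map M.μ.continuous
  have h3 : M.μ (h.ν (N.gp j)) = N.c j := by
    rw [← Scheme.Hom.comp_apply, h.w]
    rfl
  rw [h3] at h2
  exact h2

end Over

end K134.PTower
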