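import Groth.Agent.AdjLin.K134.PTower

/-!
# The node NTower of `K633.Plan`: clause (T5) and the assembly (modulo (T6))
-/

set_option autoImplicit false
universe u

open CategoryTheory CategoryTheory.Limits AlgebraicGeometry TopologicalSpace IsDiscreteValuationRing

namespace K134.PTower2

open K633.Fuj Groth.Agent K134.OrdId K134.JacSheaf K134.JacCart K134.JacRat K134.JacExc K134.PBase K134.PJac
open Groth.Agent.Divis.CartierBasic Groth.Agent.Divis.CartierStalk

/-- An ideal sheaf on an integral scheme with a zero stalk is zero. -/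
theorem eq_bot_of_stalkIdeal_eq_bot {X : Scheme.{u}} [IsIntegral X] (I : X.IdealSheafData) (x : X)
    (h : stalkIdeal I x = ⊥) : I = ⊥ := by
  obtain ⟨U, hU⟩ := exists_affine x
  have h1 : I.ideal U = ⊥ := by
    rw [stalkIdeal_eq I U hU] at h
    exact (Ideal.map_eq_bot_iff_of_injective (germ_injective_of_isIntegral X x hU)).1 h
  ext V : 2
  rw [Scheme.IdealSheafData.ideal_bot, Pi.bot_apply]
  by_cases hV : Nonempty V.1
  · obtain ⟨v⟩ := hV
    obtain ⟨z, -, hz⟩ := (PreirreducibleSpace.isPreirreducible_univ (X := X)) U.1 V.1 U.1.2 V.1.2 ⟨x, trivial, hU⟩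
      ⟨v.1, trivial, v.2⟩
    obtain ⟨W, hzW, hWU, hWV⟩ := exists_affine_le (x := z) U.1 V.1 hz.1 hz.2
    have h7 : I.ideal W = ⊥ := by
      rw [← I.map_ideal (U := W) (V := U) hWU, h1, Ideal.map_bot]
    have h8 := I.map_ideal (U := W) (V := V) hWV
    rw [h7] at h8
    have h9 : Nonempty W.1 := ⟨⟨z, hzW⟩⟩
    exact (Ideal.map_eq_bot_iff_of_injective (map_injective_of_isIntegral X (homOfLE hWV))).1 h8
  · have h2 : V.1 = ⊥ := by
      rw [← le_bot_iff]
      intro v hv
      exact (hV ⟨⟨v, hv⟩⟩).elim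
    have h3 : Subsingleton Γ(X, V.1) := by
      rw [h2]
      infer_instance
    exact Subsingleton.elim _ _

variable {k : Type u} [Field k] {X : Scheme.{u}} {p : X ⟶ Spec (CommRingCat.of k)} {n : ℕ} {L : X.Modules}

theorem stalkIdeal_comap_ne_bot [IsIntegral X] (M : Model p) {I : X.IdealSheafData} (hI : I ≠ ⊥) (y : M.Y) :
    stalkIdeal (I.comap M.μ) y ≠ ⊥ := by
  intro h0
  have h1 := eq_bot_of_stalkIdeal_eq_bot _ y h0
  have h2 : stalkIdeal (I.comap M.μ) (genericPoint M.Y) = ⊥ := by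
    rw [K577.GenNear.stalkIdeal_specializes (I.comap M.μ) (genericPoint_specializes y), h0, Ideal.map_bot]
  rw [stalkIdeal_comap] at h2
  have h3 := (ConcreteCategory.isIso_iff_bijective _).1 (isIso_stalkMap_generic M.bir)
  exact hI (eq_bot_of_stalkIdeal_eq_bot I _ ((Ideal.map_eq_bot_iff_of_injective h3.1).1 h2))

/-- (T5) -/
theorem o_eq_zero_iff [IsIntegral X] (M : Model p) {I : X.IdealSheafData} (i : Fin M.r) (hI : I ≠ ⊥) :
    M.o I i = 0 ↔ M.c i ∉ I.support := by
  have h1 := isDVR_gp M i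
  have h2 := stalkIdeal_eq_pow M (I.comap M.μ) i (stalkIdeal_comap_ne_bot M hI _)
  have h3 : M.c i ∉ I.support ↔ M.gp i ∉ (I.comap M.μ).support := by
    rw [notMem_support_iff_stalkIdeal_eq_top, notMem_support_iff_stalkIdeal_eq_top, stalkIdeal_comap]
    constructor
    · intro h
      have h' : stalkIdeal I (M.μ (M.gp i)) = ⊤ := h
      rw [h', Ideal.map_top]
    · intro h
      by_contra h4
      have h5 : stalkIdeal I (M.μ (M.gp i)) ≤ IsLocalRing.maximalIdeal (X.presheaf.stalk (M.μ (M.gp i))) :=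
        IsLocalRing.le_maximalIdeal h4
      have h6 := Ideal.map_mono (f := (M.μ.stalkMap (M.gp i)).hom) h5
      rw [h, top_le_iff] at h6
      have h7 : (IsLocalRing.maximalIdeal (X.presheaf.stalk (M.μ (M.gp i)))).map (M.μ.stalkMap (M.gp i)).hom ≤
          IsLocalRing.maximalIdeal (M.Y.presheaf.stalk (M.gp i)) :=
        IsLocalRing.map_maximalIdeal_le _
      rw [h6, top_le_iff] at h7
      exact (IsLocalRing.maximalIdeal.isMaximal _).ne_top h7
  rw [h3, notMem_support_iff_stalkIdeal_eq_top, h2]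
  change K633.Fuj.ord (I.comap M.μ) (M.gp i) = 0 ↔ _
  constructor
  · intro h
    rw [h, pow_zero, Ideal.one_eq_top]
  · intro h
    by_contra h4
    exact (IsLocalRing.maximalIdeal.isMaximal (M.Y.presheaf.stalk (M.gp i))).ne_top
      (top_le_iff.1 (h ▸ Ideal.pow_le_self h4))

/-- **NTower** modulo (T6) -/
theorem nTower (C : Ctx p n L)
    (h6 : ∀ (M : Model p) (x : X), IsClosed ({x} : Set X) → 1 ≤ n → M.IsMon (ptI x) → ∃ i, M.c i = x) :
    NTower p n := by
  have := C.int
  exact ⟨fun N M h I _ hM j => PTower.o_eq_sum h C hM j, fun N M h j => PTower.sum_A_le h C j,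
    fun N M h j i hji => PTower.strict h C hji, fun N M h j i he => PTower.specializes_of_e_ne_zero h he,
    fun M I i hI => o_eq_zero_iff M i hI, h6⟩

end K134.PTower2
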